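import Groth.Agent.GIT36.Mu.Main
import Groth.Agent.GIT36.AffQuot.Coact
import Groth.Agent.Hopf35.Stable

/-!
Rational points of the group and of an affine scheme with action, and their algebra counterparts.
-/

set_option autoImplicit false
set_option backward.isDefEq.respectTransparency.types false
set_option linter.style.haveILetI false
set_option linter.unusedSectionVars false

universe u

open CategoryTheory CategoryTheory.Limits MonoidalCategory CartesianMonoidalCategory MonObj GrpObj AlgebraicGeometry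
  Opposite WithConv
open scoped TensorProduct
open Groth.Agent.GIT36.Mu Groth.Agent.FinSub96

noncomputable section

namespace Groth.Agent.GIT36.Proj

variable {k : Type u} [Field k]

theorem specMap_self : Spec.map (CommRingCat.ofHom (algebraMap k k)) = 𝟙 (Spec (CommRingCat.of k)) := by
  rw [show CommRingCat.ofHom (algebraMap k k) = 𝟙 _ from rfl, Spec.map_id]

/-- the base point as the spectrum of the field -/
def ptIso : Pt k ≅ VecGrp.pt k k :=
  Over.isoMk (Iso.refl _) (by
    show 𝟙 _ ≫ Spec.map (CommRingCat.ofHom (algebraMap k k)) = 𝟙 _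
    rw [specMap_self, Category.comp_id])

theorem ptIso_inv_left : (ptIso (k := k)).inv.left = 𝟙 _ := rfl

variable {Z : Over (St k)} [IsAffine Z.left]

/-- the rational point of an algebra map -/
def zpt (x : Γ(Z.left, ⊤) →ₐ[k] k) : Pt k ⟶ Z := ptIso.hom ≫ AffQuot.xe x

theorem zpt_injective : Function.Injective (zpt (Z := Z)) := fun _ _ h =>
  AffQuot.xe_injective ((cancel_epi ptIso.hom).1 h)

theorem zpt_surjective : Function.Surjective (zpt (Z := Z)) := fun p => by
  obtain ⟨x, hx⟩ := AffQuot.xe_surjective (ptIso.inv ≫ p)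
  exact ⟨x, by rw [zpt, hx, Iso.hom_inv_id_assoc]⟩

theorem gv_zpt (x : Γ(Z.left, ⊤) →ₐ[k] k) (s : Γ(Z.left, ⊤)) : gv (zpt x) s = x s := by
  show (Scheme.ΓSpecIso (CommRingCat.of k)).hom ((zpt x).left.appTop s) = x s
  rw [zpt, Over.comp_left, Scheme.Hom.comp_appTop, CommRingCat.comp_apply, AffQuot.appTop_xe]
  exact Iso.inv_hom_id_apply _ _

variable {G : Over (St k)} [GrpObj G] {A : Type u} [CommRing A] [HopfAlgebra k A]
  (ψ : GMod80.sp k A ≅ G) [IsMonHom ψ.hom]

/-- the rational point of the group of an algebra map -/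
def gOf : WithConv (A →ₐ[k] k) →* (Pt k ⟶ G) where
  toFun g := ptIso.hom ≫ GMod80.e ψ k g
  map_one' := by rw [map_one, MonObj.comp_one]
  map_mul' g h := by rw [map_mul, MonObj.comp_mul]

theorem gOf_bijective : Function.Bijective (gOf ψ) := by
  constructor
  · intro g h e
    exact (GMod80.e ψ k).injective ((cancel_epi (ptIso (k := k)).hom).1 e)
  · intro p
    refine ⟨(GMod80.e ψ k).symm (ptIso.inv ≫ p), ?_⟩
    show ptIso.hom ≫ GMod80.e ψ k ((GMod80.e ψ k).symm _) = p
    rw [MulEquiv.apply_symm_apply, Iso.hom_inv_id_assoc]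

variable (a : AlgGrp.Action G Z)

/-- the action on rational points -/
theorem act_zpt (g : WithConv (A →ₐ[k] k)) (x : Γ(Z.left, ⊤) →ₐ[k] k) :
    letI := AffQuot.comod ψ a
    haveI := AffQuot.isCoactAlg ψ a
    lift (gOf ψ g)⁻¹ (zpt x) ≫ a.act = zpt (GLin.actPt k g.ofConv x) := by
  letI := AffQuot.comod ψ a
  haveI := AffQuot.isCoactAlg ψ a
  show lift (ptIso.hom ≫ GMod80.e ψ k g)⁻¹ _ ≫ a.act = _
  rw [zpt, zpt, ← GrpObj.comp_inv, ← comp_lift_assoc]
  refine congrArg (ptIso.hom ≫ ·) ?_
  show AffQuot.act' ψ a g x = _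
  rw [AffQuot.act'_eq]
  refine congrArg AffQuot.xe (AlgHom.ext fun r => ?_)
  show _ = g.ofConv ((Algebra.TensorProduct.lid k A) (Algebra.TensorProduct.map x (AlgHom.id k A)
    (AffQuot.coact ψ a r)))
  rw [AlgHom.comp_apply]
  generalize AffQuot.coact ψ a r = z
  induction z with
  | zero => simp
  | add p q hp hq => simp only [map_add, hp, hq]
  | tmul p q => simp [Algebra.smul_def]

theorem inv_act_zpt (g : WithConv (A →ₐ[k] k)) (x : Γ(Z.left, ⊤) →ₐ[k] k) :
    letI := AffQuot.comod ψ a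
    haveI := AffQuot.isCoactAlg ψ a
    lift (gOf ψ g) (zpt x) ≫ a.act = zpt (GLin.actPt k g⁻¹.ofConv x) := by
  have h := act_zpt ψ a g⁻¹ x
  rwa [map_inv, _root_.inv_inv] at h

/-- finite stabilisers, on rational points -/
theorem hasFiniteStab_iff_pts [IsAlgClosed k] [Algebra.FiniteType k A] [IsReduced A]
    [Algebra.FiniteType k Γ(Z.left, ⊤)] (x : Γ(Z.left, ⊤) →ₐ[k] k) :
    letI := AffQuot.comod ψ a
    haveI := AffQuot.isCoactAlg ψ a
    GLin.HasFiniteStab k A x ↔ {g : Pt k ⟶ G | lift g (zpt x) ≫ a.act = zpt x}.Finite := by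
  letI := AffQuot.comod ψ a
  haveI := AffQuot.isCoactAlg ψ a
  have hset : {g : Pt k ⟶ G | lift g (zpt x) ≫ a.act = zpt x} =
      (fun g : A →ₐ[k] k => (gOf ψ (toConv g))⁻¹) ''
        {g | ∀ f, x (HopfRep.Comod.act k A Γ(Z.left, ⊤) g f) = x f} := by
    ext p
    simp only [Set.mem_setOf_eq, Set.mem_image]
    constructor
    · intro hp
      obtain ⟨g, hg⟩ := (gOf_bijective ψ).2 p⁻¹
      refine ⟨g.ofConv, fun f => ?_, by rw [toConv_ofConv, hg, _root_.inv_inv]⟩
      have h := act_zpt ψ a g x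
      rw [hg, _root_.inv_inv, hp] at h
      rw [← Hopf35.Stable.actPt_apply, ← zpt_injective h]
    · rintro ⟨g, hg, rfl⟩
      rw [act_zpt]
      refine congrArg zpt (AlgHom.ext fun f => ?_)
      rw [ofConv_toConv, Hopf35.Stable.actPt_apply]
      exact hg f
  rw [hset, Hopf35.Stable.hasFiniteStab_iff]
  refine ⟨fun h => h.image _, fun h => h.of_finite_image ?_⟩
  intro g _ g' _ e
  exact WithConv.toConv_injective ((gOf_bijective ψ).1 (inv_injective e))

end Groth.Agent.GIT36.Proj
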