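import Groth.Prelude.Def_AlgGrp

/-!
Restriction of an action to an invariant open subscheme.
-/

set_option autoImplicit false
set_option backward.isDefEq.respectTransparency.types false
set_option linter.style.haveILetI false

universe u

open CategoryTheory CategoryTheory.Limits MonoidalCategory CartesianMonoidalCategory MonObj AlgebraicGeometry

noncomputable section

namespace Groth.Agent.GIT36.Proj

variable {S : Scheme.{u}} {G X : Over S} [GrpObj G]

/-- an open as an object over the base -/
abbrev openObj (U : X.left.Opens) : Over S := Over.mk (U.ι ≫ X.hom)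

/-- the inclusion of an open -/
abbrev openIncl (U : X.left.Opens) : openObj U ⟶ X := Over.homMk U.ι rfl

theorem openIncl_cancel {U : X.left.Opens} {Z : Over S} {f g : Z ⟶ openObj U}
    (h : f ≫ openIncl U = g ≫ openIncl U) : f = g := by
  refine Over.OverMorphism.ext ((cancel_mono U.ι).1 ?_)
  exact congrArg (fun m => m.left) h

variable (a : AlgGrp.Action G X) (U : X.left.Opens)

theorem range_restrict (hinv : a.act.left ⁻¹ᵁ U = (snd G X).left ⁻¹ᵁ U) :
    Set.range ((G ◁ openIncl U) ≫ a.act).left.base ⊆ Set.range U.ι.base := by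
  rintro _ ⟨p, rfl⟩
  rw [Scheme.Opens.range_ι]
  show (G ◁ openIncl U).left p ∈ a.act.left ⁻¹ᵁ U
  rw [hinv]
  show ((G ◁ openIncl U) ≫ snd G X).left p ∈ U
  rw [whiskerLeft_snd]
  exact ((snd G (openObj U)).left p).2

/-- the restricted action morphism -/
def resMap (hinv : a.act.left ⁻¹ᵁ U = (snd G X).left ⁻¹ᵁ U) : G ⊗ openObj U ⟶ openObj U :=
  Over.homMk (IsOpenImmersion.lift U.ι ((G ◁ openIncl U) ≫ a.act).left (range_restrict a U hinv)) (by
    show _ ≫ U.ι ≫ X.hom = _
    rw [IsOpenImmersion.lift_fac_assoc]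
    exact Over.w ((G ◁ openIncl U) ≫ a.act))

theorem resMap_comp (hinv : a.act.left ⁻¹ᵁ U = (snd G X).left ⁻¹ᵁ U) :
    resMap a U hinv ≫ openIncl U = (G ◁ openIncl U) ≫ a.act :=
  Over.OverMorphism.ext (IsOpenImmersion.lift_fac _ _ _)

/-- the action on an invariant open -/
def resAct (hinv : a.act.left ⁻¹ᵁ U = (snd G X).left ⁻¹ᵁ U) : AlgGrp.Action G (openObj U) where
  act := resMap a U hinv
  one_act := by
    refine openIncl_cancel ?_
    rw [Category.assoc, resMap_comp, ← whisker_exchange_assoc, a.one_act, leftUnitor_naturality]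
  mul_act := by
    refine openIncl_cancel ?_
    rw [Category.assoc, Category.assoc, Category.assoc, resMap_comp, ← whisker_exchange_assoc, a.mul_act,
      associator_naturality_right_assoc, ← MonoidalCategory.whiskerLeft_comp_assoc,
      ← MonoidalCategory.whiskerLeft_comp_assoc, resMap_comp]

theorem resAct_comp (hinv : a.act.left ⁻¹ᵁ U = (snd G X).left ⁻¹ᵁ U) :
    (resAct a U hinv).act ≫ openIncl U = (G ◁ openIncl U) ≫ a.act := resMap_comp a U hinv

end Groth.Agent.GIT36.Proj
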