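import Groth.Agent.Hopf35.Stable
import Groth.Agent.FinGrp34.PolyComod
import Groth.Agent.S20021
import Mathlib.Algebra.MvPolynomial.Nilpotent

/-!
Finite stabilisers: closed orbits, and homogeneous invariants cutting out vectors with finite stabiliser.
-/

set_option autoImplicit false
set_option linter.style.haveILetI false
set_option linter.unusedSectionVars false

universe u

open TensorProduct

noncomputable section

namespace Groth.Agent.GIT36.Proj

open Hopf35.Stable

variable {k : Type u} [Field k] [IsAlgClosed k] {A : Type u} [CommRing A] [HopfAlgebra k A] [Algebra.FiniteType k A]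
  [IsReduced A]

theorem isClosedOrbit_of_forall_finiteStab {R : Type u} [CommRing R] [Algebra k R] [Algebra.FiniteType k R]
    [HopfRep.Comod k A R] [GLin.IsCoactAlg k A R] (h : ∀ z : R →ₐ[k] k, GLin.HasFiniteStab k A z)
    (x : R →ₐ[k] k) : GLin.IsClosedOrbit k A x :=
  isClosedOrbit_iff.2 fun z hz => inOrbit_of_finite_stab hz (h z)

section Scale

variable {J : Type u} [Fintype J] [DecidableEq J]

/-- scaling of the variables -/
def scaleX (c : k) : MvPolynomial J k →ₐ[k] MvPolynomial J k :=
  MvPolynomial.aeval fun i => MvPolynomial.C c * MvPolynomial.X i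

theorem scaleX_homogeneous (c : k) {P : MvPolynomial J k} {n : ℕ} (hP : P.IsHomogeneous n) :
    scaleX c P = MvPolynomial.C (c ^ n) * P := by
  conv_lhs => rw [P.as_sum]
  conv_rhs => rw [P.as_sum]
  rw [map_sum, Finset.mul_sum]
  refine Finset.sum_congr rfl fun m hm => ?_
  have hd : ∑ i, m i = n := by
    rw [← hP (MvPolynomial.mem_support_iff.1 hm)]
    simp [Finsupp.weight_apply, Finsupp.sum_fintype]
  rw [scaleX, MvPolynomial.aeval_monomial, MvPolynomial.monomial_eq,
    Finsupp.prod_fintype _ _ (fun i => pow_zero _), Finsupp.prod_fintype _ _ (fun i => pow_zero _)]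
  simp only [mul_pow, Finset.prod_mul_distrib, ← map_pow, ← map_prod, MvPolynomial.algebraMap_eq]
  rw [Finset.prod_pow_eq_pow_sum, hd, mul_left_comm]

theorem vecPt_scale (w : J → k) (c : k) :
    (GLin.vecPt k J fun i => c * w i) = (GLin.vecPt k J w).comp (scaleX c) := by
  refine MvPolynomial.algHom_ext fun i => ?_
  simp [GLin.vecPt, scaleX]

theorem scaleX_surjective {c : k} (hc : c ≠ 0) : Function.Surjective (scaleX (J := J) c) := by
  intro P
  refine ⟨scaleX c⁻¹ P, ?_⟩
  have : (scaleX (J := J) c).comp (scaleX c⁻¹) = AlgHom.id k _ := by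
    refine MvPolynomial.algHom_ext fun i => ?_
    simp only [AlgHom.comp_apply, scaleX, MvPolynomial.aeval_X, map_mul, MvPolynomial.algHom_C,
      MvPolynomial.algebraMap_eq, AlgHom.id_apply]
    rw [← mul_assoc, ← map_mul, inv_mul_cancel₀ hc, map_one, one_mul]
  exact DFunLike.congr_fun this P

variable {cM : J → J → A} (hrep : Comod33.Mat.IsRep (k := k) cM)

theorem coact_scale (c : k) (P : MvPolynomial J k) :
    FinGrp34.PolyComod.polyCoact (k := k) cM (scaleX c P) =
      Algebra.TensorProduct.map (scaleX c) (AlgHom.id k A) (FinGrp34.PolyComod.polyCoact (k := k) cM P) := by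
  suffices h : (FinGrp34.PolyComod.polyCoact (k := k) cM).comp (scaleX c) =
      (Algebra.TensorProduct.map (scaleX c) (AlgHom.id k A)).comp (FinGrp34.PolyComod.polyCoact (k := k) cM) from
    DFunLike.congr_fun h P
  refine MvPolynomial.algHom_ext fun j => ?_
  simp [scaleX, FinGrp34.PolyComod.polyCoact_X, Finset.mul_sum, MvPolynomial.algebraMap_eq,
    Algebra.TensorProduct.algebraMap_apply]

/-- an invariant homogeneous form, non-zero at a stable vector, whose non-vanishing implies finite stabiliser -/
theorem exists_form (hLR : HopfRep.IsLinearlyReductive k A) :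
    letI := FinGrp34.PolyComod.comod (k := k) hrep
    haveI := FinGrp34.PolyComod.isCoactAlg (k := k) hrep
    ∀ v : J → k, GLin.IsStableVec k A v → GLin.IsSemistableVec k A v →
      ∃ P ∈ GLin.invariants k A (MvPolynomial J k), ∃ d : ℕ, 0 < d ∧ P.IsHomogeneous d ∧
        MvPolynomial.eval v P ≠ 0 ∧
        ∀ w : J → k, MvPolynomial.eval w P ≠ 0 → GLin.HasFiniteStab k A (GLin.vecPt k J w) := by
  classical
  letI := FinGrp34.PolyComod.comod (k := k) hrep
  haveI := FinGrp34.PolyComod.isCoactAlg (k := k) hrep
  intro v hst hss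
  obtain ⟨S, hS, hSiff⟩ := S20021.result k A hLR (MvPolynomial J k)
  obtain ⟨f, hf, hfv⟩ := (hSiff (GLin.vecPt k J v)).1 hst
  have hev : ∀ (u : J → k) (p : MvPolynomial J k), GLin.vecPt k J u p = MvPolynomial.eval u p := fun u p => by
    simp [GLin.vecPt, MvPolynomial.coe_aeval_eq_eval]
  rw [hev] at hfv
  have hsum := f.sum_homogeneousComponent
  set D := f.totalDegree
  have hscale : ∀ c : k, scaleX c f =
      ∑ n ∈ Finset.range (D + 1), MvPolynomial.C (c ^ n) * f.homogeneousComponent n := by
    intro c
    conv_lhs => rw [← hsum]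
    rw [map_sum]
    exact Finset.sum_congr rfl fun n _ => scaleX_homogeneous c (MvPolynomial.homogeneousComponent_isHomogeneous n f)
  -- components of an invariant are invariant
  have hinv : ∀ n ∈ Finset.range (D + 1), f.homogeneousComponent n ∈ GLin.invariants k A (MvPolynomial J k) := by
    intro n hn
    rw [GLin.mem_invariants_iff, ← sub_eq_zero]
    show FinGrp34.PolyComod.polyCoact (k := k) cM (f.homogeneousComponent n) -
      f.homogeneousComponent n ⊗ₜ[k] (1 : A) = 0
    refine (Module.forall_dual_apply_eq_zero_iff k _).1 fun ℓ => ?_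
    let Dn : ℕ → k := fun m => ℓ (FinGrp34.PolyComod.polyCoact (k := k) cM (f.homogeneousComponent m) -
      f.homogeneousComponent m ⊗ₜ[k] (1 : A))
    let q : Polynomial k := ∑ m ∈ Finset.range (D + 1), Polynomial.C (Dn m) * Polynomial.X ^ m
    have hq : q = 0 := Polynomial.funext fun c => by
      rw [Polynomial.eval_zero]
      simp only [q, Polynomial.eval_finsetSum, Polynomial.eval_mul, Polynomial.eval_C, Polynomial.eval_pow,
        Polynomial.eval_X]
      have h0 : FinGrp34.PolyComod.polyCoact (k := k) cM (scaleX c f) - scaleX c f ⊗ₜ[k] (1 : A) = 0 := by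
        rw [coact_scale, show FinGrp34.PolyComod.polyCoact (k := k) cM f = f ⊗ₜ[k] (1 : A) from
          (GLin.mem_invariants_iff k A (MvPolynomial J k) f).1 (hS hf)]
        simp
      rw [hscale c, map_sum, TensorProduct.sum_tmul, ← Finset.sum_sub_distrib] at h0
      have h1 := congrArg ℓ h0
      rw [map_sum, map_zero] at h1
      refine Eq.trans (Finset.sum_congr rfl fun m _ => ?_) h1
      rw [MvPolynomial.C_mul', map_smul, ← TensorProduct.smul_tmul', map_sub, map_smul, map_smul, smul_eq_mul, smul_eq_mul, ← mul_sub, ← map_sub, mul_comm]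
    have := congrArg (fun p : Polynomial k => p.coeff n) hq
    simp only [q, Polynomial.finsetSum_coeff, Polynomial.coeff_C_mul_X_pow, Finset.sum_ite_eq, hn, if_true,
      Polynomial.coeff_zero] at this
    exact this
  -- vectors with infinite stabiliser kill all components
  have hvan : ∀ w : J → k, ¬ GLin.HasFiniteStab k A (GLin.vecPt k J w) →
      ∀ n ∈ Finset.range (D + 1), MvPolynomial.eval w (f.homogeneousComponent n) = 0 := by
    intro w hw n hn
    let q : Polynomial k :=
      ∑ m ∈ Finset.range (D + 1), Polynomial.C (MvPolynomial.eval w (f.homogeneousComponent m)) * Polynomial.X ^ m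
    have hq : Polynomial.X * q = 0 := Polynomial.funext fun c => by
      rw [Polynomial.eval_zero, Polynomial.eval_mul, Polynomial.eval_X]
      by_cases hc : c = 0
      · rw [hc, zero_mul]
      refine mul_eq_zero_of_right _ ?_
      by_contra hne
      apply hw
      have hfc : GLin.vecPt k J (fun i => c * w i) f ≠ 0 := by
        rw [vecPt_scale, AlgHom.comp_apply, hscale, hev, map_sum]
        intro h0
        refine hne (Eq.trans ?_ h0)
        simp only [q, Polynomial.eval_finsetSum, Polynomial.eval_mul, Polynomial.eval_C, Polynomial.eval_pow,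
          Polynomial.eval_X, map_mul, MvPolynomial.eval_C]
        exact Finset.sum_congr rfl fun m _ => mul_comm _ _
      have hfin := ((hSiff _).2 ⟨f, hf, hfc⟩).2
      rw [hasFiniteStab_iff] at hfin ⊢
      refine hfin.subset fun g hg p => ?_
      rw [vecPt_scale, AlgHom.comp_apply, AlgHom.comp_apply]
      have hnat : HopfRep.Comod.act k A (MvPolynomial J k) g p = FinGrp34.OrbitMap.actHom A _ g p :=
        (FinGrp34.OrbitMap.actHom_apply g p).symm
      rw [hnat, ← FinGrp34.PolyComod.map_actHom (φ := scaleX c) (fun s => coact_scale c s) g p,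
        FinGrp34.OrbitMap.actHom_apply]
      exact hg _
    have h0 := (mul_eq_zero.1 hq).resolve_left Polynomial.X_ne_zero
    have := congrArg (fun p : Polynomial k => p.coeff n) h0
    simpa [q, Polynomial.coeff_C_mul_X_pow, hn] using this
  obtain ⟨n, hn, hnv⟩ : ∃ n ∈ Finset.range (D + 1), MvPolynomial.eval v (f.homogeneousComponent n) ≠ 0 := by
    by_contra hall
    push Not at hall
    refine hfv ?_
    rw [← hsum, map_sum]
    exact Finset.sum_eq_zero hall
  simp only [GLin.IsSemistableVec, GLin.IsNullform, not_forall] at hss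
  obtain ⟨Q, hQ, e, he, hQh, hQv⟩ := hss
  refine ⟨f.homogeneousComponent n * Q, mul_mem (hinv n hn) hQ, n + e, by omega,
    (MvPolynomial.homogeneousComponent_isHomogeneous n f).mul hQh, ?_, fun w hw => ?_⟩
  · rw [map_mul]
    exact mul_ne_zero hnv hQv
  · by_contra hno
    rw [map_mul, hvan w hno n hn, zero_mul] at hw
    exact hw rfl

end Scale

end Groth.Agent.GIT36.Proj
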