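import Groth.Agent.GIT36.Proj.Pts
import Groth.Agent.GIT36.Proj.Restrict
import Groth.Agent.GIT36.Proj.StableVec
import Groth.Agent.GIT36.AffQuot.Main
import Groth.Agent.GIT36.LineBundle.GeomOrbit
import Groth.Agent.S19400
import Groth.Agent.GMod80.NoTorus

/-!
With finite stabilisers at rational points an affine quotient is geometric, so the action is closed.
-/

set_option autoImplicit false
set_option backward.isDefEq.respectTransparency.types false
set_option linter.style.haveILetI false
set_option linter.unusedSectionVars false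

universe u

open CategoryTheory CategoryTheory.Limits MonoidalCategory CartesianMonoidalCategory MonObj GrpObj AlgebraicGeometry
  Opposite WithConv Topology
open scoped TensorProduct
open Groth.Agent.GIT36.Mu Groth.Agent.FinSub96

noncomputable section

namespace Groth.Agent.GIT36.Proj

/-- a non-empty constructible set of a Jacobson space contains a closed point -/
theorem exists_closedPoint_of_isConstructible {P : Type*} [TopologicalSpace P] [JacobsonSpace P] {s : Set P}
    (hs : IsConstructible s) (hne : s.Nonempty) : (s ∩ closedPoints P).Nonempty := by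
  induction s, hs using BooleanSubalgebra.closure_sdiff_sup_induction with
  | isSublattice =>
    exact ⟨fun s hs t ht ↦ ⟨hs.1.union ht.1, hs.2.union ht.2⟩,
      fun s hs t ht ↦ ⟨hs.1.inter ht.1, hs.2.inter_isOpen ht.2 ht.1⟩⟩
  | bot_mem => exact ⟨isOpen_empty, .empty⟩
  | top_mem => exact ⟨isOpen_univ, .univ⟩
  | sdiff U hU V hV =>
    exact nonempty_inter_closedPoints hne (hU.1.isLocallyClosed.inter hV.1.isClosed_compl.isLocallyClosed)
  | sup s _ t _ hs' ht' =>
    rcases Set.union_nonempty.1 hne with h | h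
    · exact (hs' h).mono (Set.inter_subset_inter_left _ Set.subset_union_left)
    · exact (ht' h).mono (Set.inter_subset_inter_left _ Set.subset_union_right)

variable {k : Type u} [Field k] [IsAlgClosed k]

/-- functions on an affine scheme of finite type -/
theorem finiteType_affine (X : Over (St k)) [IsAffine X.left] [LocallyOfFiniteType X.hom] :
    Algebra.FiniteType k Γ(X.left, ⊤) := by
  have h : LocallyOfFiniteType (Spec.map (CommRingCat.ofHom (algebraMap k Γ(X.left, ⊤)))) := by
    haveI : IsIso (AffQuot.chi X).hom.left := ((Over.forget _).mapIso (AffQuot.chi X)).isIso_hom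
    have e : Spec.map (CommRingCat.ofHom (algebraMap k Γ(X.left, ⊤))) = (AffQuot.chi X).hom.left ≫ X.hom :=
      (Over.w (AffQuot.chi X).hom).symm
    rw [e]
    infer_instance
  rw [HasRingHomProperty.Spec_iff (P := @LocallyOfFiniteType)] at h
  exact RingHom.finiteType_algebraMap.1 h

variable {G X Y : Over (St k)} [GrpObj G]
  {A : Type u} [CommRing A] [HopfAlgebra k A] [Algebra.FiniteType k A] [IsReduced A]
  [IsAffine G.left] [LocallyOfFiniteType G.hom] (ψ : GMod80.sp k A ≅ G) [IsMonHom ψ.hom] (hLR : HopfRep.IsLinearlyReductive k A)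
  [IsAffine X.left] [IsAffine Y.left] {a : AlgGrp.Action G X} {φ : X ⟶ Y}

include ψ hLR in
theorem surjective_PsiY_of_finiteStab [LocallyOfFiniteType X.hom] [LocallyOfFiniteType Y.hom]
    (h : AffQuot.AffQ a φ) (hst : ∀ x : Pt k ⟶ X, {g : Pt k ⟶ G | lift g x ≫ a.act = x}.Finite) :
    Function.Surjective (GIT.PsiY a φ h.inv).base := by
  haveI : IsLocallyNoetherian (St k) := inferInstance
  let P := pullback φ.left φ.left
  let hP : P ⟶ St k := pullback.fst φ.left φ.left ≫ X.hom
  haveI : IsAffine (G ⊗ X).left := inferInstanceAs (IsAffine (pullback G.hom X.hom))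
  haveI : IsAffine P := inferInstanceAs (IsAffine (pullback φ.left φ.left))
  haveI : LocallyOfFiniteType φ.left :=
    haveI : LocallyOfFiniteType (φ.left ≫ Y.hom) := by rw [Over.w φ]; infer_instance
    locallyOfFiniteType_of_comp φ.left Y.hom
  haveI : LocallyOfFiniteType hP := inferInstanceAs (LocallyOfFiniteType (pullback.fst φ.left φ.left ≫ X.hom))
  haveI : LocallyOfFiniteType (GIT.PsiY a φ h.inv) :=
    haveI : LocallyOfFiniteType (GIT.PsiY a φ h.inv ≫ hP) := by
      rw [show GIT.PsiY a φ h.inv ≫ hP = (G ⊗ X).hom by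
        simp only [hP, GIT.PsiY, pullback.lift_fst_assoc]; exact Over.w a.act]
      show LocallyOfFiniteType (pullback.fst G.hom X.hom ≫ G.hom)
      infer_instance
    locallyOfFiniteType_of_comp (GIT.PsiY a φ h.inv) hP
  haveI : IsLocallyNoetherian P := LocallyOfFiniteType.isLocallyNoetherian hP
  haveI : JacobsonSpace P := LocallyOfFiniteType.jacobsonSpace hP
  haveI : QuasiCompact (GIT.PsiY a φ h.inv) := inferInstance
  haveI : LocallyOfFinitePresentation (GIT.PsiY a φ h.inv) := inferInstance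
  by_contra hne
  have hc : IsConstructible (Set.range (GIT.PsiY a φ h.inv).base)ᶜ := by
    rw [← Set.image_univ]
    exact (Scheme.Hom.isConstructible_image _ Topology.IsConstructible.univ).compl
  obtain ⟨z, hz, hzc⟩ := exists_closedPoint_of_isConstructible hc (by
    simp only [Function.Surjective, not_forall, not_exists] at hne
    obtain ⟨z, hz⟩ := hne
    exact ⟨z, fun ⟨w, hw⟩ => hz w hw⟩)
  apply hz
  obtain ⟨⟨s, hs⟩, hsz⟩ := (pointEquivClosedPoint hP).surjective ⟨z, hzc⟩
  let x₁ : Pt k ⟶ X := Over.homMk (s ≫ pullback.fst φ.left φ.left) ((Category.assoc _ _ _).trans hs)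
  let x₂ : Pt k ⟶ X := Over.homMk (s ≫ pullback.snd φ.left φ.left) (by
    show (s ≫ pullback.snd φ.left φ.left) ≫ X.hom = _
    rw [Category.assoc, ← Over.w φ, ← pullback.condition_assoc, Over.w φ]
    exact hs)
  have e : x₁ ≫ φ = x₂ ≫ φ := Over.OverMorphism.ext (by
    show (s ≫ pullback.fst φ.left φ.left) ≫ φ.left = (s ≫ pullback.snd φ.left φ.left) ≫ φ.left
    rw [Category.assoc, Category.assoc, pullback.condition])
  obtain ⟨e₁, he₁⟩ := zpt_surjective x₁
  obtain ⟨e₂, he₂⟩ := zpt_surjective x₂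
  letI := AffQuot.comod ψ a
  haveI := AffQuot.isCoactAlg ψ a
  haveI : Algebra.FiniteType k Γ(X.left, ⊤) := finiteType_affine X
  have hfin : ∀ x : Γ(X.left, ⊤) →ₐ[k] k, GLin.HasFiniteStab k A x := fun x =>
    (hasFiniteStab_iff_pts ψ a x).2 (hst _)
  have heq : ∀ c : GLin.invariants k A Γ(X.left, ⊤), e₁ c.1 = e₂ c.1 := by
    intro c
    obtain ⟨y, hy⟩ : (c.1 : Γ(X.left, ⊤)) ∈ Set.range φ.left.appTop := by
      rw [h.range]
      exact (AffQuot.inv_iff_range ψ X a c.1).2 ⟨c, rfl⟩
    rw [← hy, ← gv_zpt e₁, ← gv_zpt e₂, he₁, he₂, ← gv_comp, ← gv_comp, e]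
  obtain ⟨g, hg⟩ := (S19400.result k A hLR Γ(X.left, ⊤) (isClosedOrbit_of_forall_finiteStab hfin)
    (e₂.comp (GLin.invariants k A Γ(X.left, ⊤)).val)).2 e₂ e₁ rfl (AlgHom.ext fun c => heq c)
  let m : Pt k ⟶ G ⊗ X := lift (gOf ψ (toConv g))⁻¹ x₂
  have hm₁ : m ≫ a.act = x₁ := by
    show lift (gOf ψ (toConv g))⁻¹ x₂ ≫ a.act = x₁
    rw [← he₂, act_zpt, ofConv_toConv, ← hg, he₁]
  refine ⟨m.left (IsLocalRing.closedPoint k), ?_⟩
  have hmP : m.left ≫ GIT.PsiY a φ h.inv = s := by
    apply pullback.hom_ext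
    · rw [Category.assoc, Quot.PsiY_fst]
      exact congrArg (·.left) hm₁
    · rw [Category.assoc, Quot.PsiY_snd]
      exact congrArg (·.left) (lift_snd (gOf ψ (toConv g))⁻¹ x₂)
  rw [← Scheme.Hom.comp_apply, hmP]
  exact congrArg Subtype.val hsz

include ψ hLR in
theorem isGeomQuot_of_finiteStab [LocallyOfFiniteType X.hom] [LocallyOfFiniteType Y.hom]
    (h : AffQuot.AffQ a φ) (hst : ∀ x : Pt k ⟶ X, {g : Pt k ⟶ G | lift g x ≫ a.act = x}.Finite) :
    GIT.IsUnivGeomQuot a φ :=
  (Quot.isGeomQuot_univ_iff (AffQuot.isUnivCatQuot ψ hLR h)).2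
    ⟨AffQuot.isUnivSubmersive ψ hLR h, surjective_PsiY_of_finiteStab ψ hLR h hst⟩

section Open

variable {Z : Over (St k)} [LocallyOfFiniteType Z.hom] (aZ : AlgGrp.Action G Z) (U : Z.left.Opens)

include ψ hLR in
/-- on an invariant affine open with finite stabilisers at rational points the action is closed -/
theorem closedOrbitsOn_of_finiteStab (hU : IsAffineOpen U) (hinv : aZ.act.left ⁻¹ᵁ U = (snd G Z).left ⁻¹ᵁ U)
    (hst : ∀ z : Pt k ⟶ Z, z.left (IsLocalRing.closedPoint k) ∈ U →
      {g : Pt k ⟶ G | lift g z ≫ aZ.act = z}.Finite) :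
    GLinSh.ClosedOrbitsOn aZ U := by
  haveI : IsAffine (openObj U).left := hU
  haveI : LocallyOfFiniteType (openObj U).hom := inferInstanceAs (LocallyOfFiniteType (U.ι ≫ Z.hom))
  let aU := resAct aZ U hinv
  obtain ⟨Y, φ, hYa, hφ, -, hYf⟩ := AffQuot.exists_affQ ψ hLR (openObj U) aU
  haveI := hYa
  haveI := hYf inferInstance
  have hq := isGeomQuot_of_finiteStab ψ hLR hφ (fun x => by
    refine (hst (x ≫ openIncl U) ((x.left (IsLocalRing.closedPoint k)).2)).subset fun g hg => ?_
    show lift g (x ≫ openIncl U) ≫ aZ.act = x ≫ openIncl U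
    rw [← lift_whiskerLeft g x (openIncl U), Category.assoc, ← resAct_comp aZ U hinv, ← Category.assoc,
      Set.mem_ofPred_eq.mp hg])
  haveI : IsSeparated Y.hom := inferInstance
  intro Ω _ _ T hT f hfU
  let f' : T ⟶ openObj U := Over.homMk (IsOpenImmersion.lift U.ι f.left (by rwa [Scheme.Opens.range_ι])) (by
    show _ ≫ U.ι ≫ Z.hom = _
    rw [IsOpenImmersion.lift_fac_assoc]
    exact Over.w f)
  have hf' : f' ≫ openIncl U = f := Over.OverMorphism.ext (IsOpenImmersion.lift_fac _ _ _)
  have hcl := LineBundle.isClosed_range_psi hq.1 f'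
  let j : openObj U ⊗ T ⟶ Z ⊗ T := openIncl U ▷ T
  have hpsi : GIT.psi aU f' ≫ j = GIT.psi aZ f := by
    apply CartesianMonoidalCategory.hom_ext
    · simp only [GIT.psi, j, Category.assoc, whiskerRight_fst, lift_fst_assoc, lift_fst]
      rw [show aU.act ≫ openIncl U = _ from resAct_comp aZ U hinv, ← MonoidalCategory.whiskerLeft_comp_assoc, hf']
    · simp only [GIT.psi, j, Category.assoc, whiskerRight_snd, lift_snd]
  have hpb : IsPullback j.left (fst (openObj U) T).left (fst Z T).left U.ι :=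
    (Quot.isPullback_whiskerRight_left T (openIncl U))
  haveI : IsOpenImmersion j.left := MorphismProperty.of_isPullback (P := @IsOpenImmersion) hpb.flip inferInstance
  have hrange : Set.range j.left = ((fst Z T).left ⁻¹ᵁ U : Set (Z ⊗ T).left) := by
    ext p
    constructor
    · rintro ⟨q, rfl⟩
      show (fst Z T).left (j.left q) ∈ U
      rw [← Scheme.Hom.comp_apply, hpb.w]
      exact ((fst (openObj U) T).left q).2
    · intro hp
      obtain ⟨q, hq1, -⟩ := Scheme.exists_preimage_of_isPullback hpb p ⟨_, hp⟩ rfl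
      exact ⟨q, hq1⟩
  have himg : (Subtype.val : ((fst Z T).left ⁻¹ᵁ U : Set (Z ⊗ T).left) → (Z ⊗ T).left) ⁻¹'
      Set.range (GIT.psi aZ f).left.base =
      (fun p => (⟨j.left p, hrange ▸ ⟨p, rfl⟩⟩ : ((fst Z T).left ⁻¹ᵁ U : Set (Z ⊗ T).left))) ''
        Set.range (GIT.psi aU f').left.base := by
    ext ⟨p, hp⟩
    constructor
    · rintro ⟨g, hg⟩
      rw [← hpsi, Over.comp_left, Scheme.Hom.comp_apply] at hg
      exact ⟨_, ⟨g, rfl⟩, Subtype.ext hg⟩
    · rintro ⟨_, ⟨g, rfl⟩, hg⟩
      refine ⟨g, ?_⟩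
      rw [← hpsi, Over.comp_left, Scheme.Hom.comp_apply]
      exact congrArg Subtype.val hg
  refine himg ▸ ?_
  let e : (openObj U ⊗ T).left ≃ₜ ((fst Z T).left ⁻¹ᵁ U : Set (Z ⊗ T).left) :=
    j.left.isOpenEmbedding.isEmbedding.toHomeomorph.trans (Homeomorph.setCongr hrange)
  exact e.isClosedMap _ hcl

end Open

end Groth.Agent.GIT36.Proj
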