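import Groth.Agent.GIT36.Sections.Bun

/-!
Translates of weight functions are weight functions.
-/

set_option autoImplicit false
set_option backward.isDefEq.respectTransparency.types false
set_option linter.style.haveILetI false
set_option linter.unusedSectionVars false

universe u

open CategoryTheory CategoryTheory.Limits MonoidalCategory CartesianMonoidalCategory MonObj GrpObj AlgebraicGeometry
  Opposite TopologicalSpace
open Groth.Agent.GIT36.Sections

noncomputable section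

namespace Groth.Agent.GIT36.Proj

theorem exists_coef_of_locally {V X : Scheme.{u}} {π : V ⟶ X} {U : X.Opens} {y : Γ(V, π ⁻¹ᵁ U)}
    (hy : IsCoord π U y) (n : ℕ) (f : Γ(V, ⊤))
    (h : ∀ x ∈ U, ∃ (W : X.Opens) (hW : W ≤ U), x ∈ W ∧ ∃ c : Γ(X, W),
      rs (le_top : π ⁻¹ᵁ W ≤ ⊤) f = π.app W c * rs (π.preimage_mono hW) y ^ n) :
    ∃ c : Γ(X, U), rs le_top f = π.app U c * y ^ n := by
  choose W hW hxW c hc using fun x : U => h x.1 x.2
  have hres : ∀ (i : U) (W' : X.Opens) (hle : W' ≤ W i),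
      rs (le_top : π ⁻¹ᵁ W' ≤ ⊤) f = π.app W' (rs hle (c i)) * rs (π.preimage_mono (hle.trans (hW i))) y ^ n :=
    fun i W' hle => by
      have h' := congrArg (rs (π.preimage_mono hle)) (hc i)
      rw [rs_mul, rs_pow, app_rs π hle, rs_rs, rs_rs] at h'
      exact h'
  obtain ⟨d, hd⟩ := glue W hW (fun x hx => Opens.mem_iSup.2 ⟨⟨x, hx⟩, hxW ⟨x, hx⟩⟩) c fun i j =>
    coef_unique hy (inf_le_left.trans (hW i)) n
      ((hres i (W i ⊓ W j) inf_le_left).symm.trans (hres j (W i ⊓ W j) inf_le_right))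
  refine ⟨d, eq_of_locally _ _ fun z hz => ?_⟩
  let x : U := ⟨π.base z, hz⟩
  refine ⟨π ⁻¹ᵁ W x, π.preimage_mono (hW x), hxW x, ?_⟩
  rw [rs_rs, hc x, rs_mul, rs_pow, app_rs π (hW x), hd x]

section Translate

variable {S : Scheme.{u}} {G X : Over S} [GrpObj G] {a : AlgGrp.Action G X} (B : GLinSh.LinBun G a)
  (g : 𝟙_ (Over S) ⟶ G)

/-- translation by a point on the total space -/
def trV : B.V ⟶ B.V := lift (toUnit B.V ≫ g) (𝟙 B.V) ≫ B.lift.act

/-- translation by a point on the base -/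
def trX (a : AlgGrp.Action G X) (g : 𝟙_ (Over S) ⟶ G) : X ⟶ X := lift (toUnit X ≫ g) (𝟙 X) ≫ a.act

theorem section_comm : lift (toUnit B.V ≫ g) (𝟙 B.V) ≫ (G ◁ B.π) = B.π ≫ lift (toUnit X ≫ g) (𝟙 X) := by
  apply CartesianMonoidalCategory.hom_ext
  · simp
  · simp

theorem trV_π : trV B g ≫ B.π = B.π ≫ trX a g := by
  rw [trV, trX, Category.assoc, B.lift_π, ← Category.assoc, section_comm, Category.assoc]

/-- translates of weight functions are weight functions -/
theorem hasWeight_translate {n : ℕ} {f : Γ(B.V.left, ⊤)} (hf : GLinSh.HasWeight B.atlas.chart n f) :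
    GLinSh.HasWeight B.atlas.chart n ((trV B g).left.appTop f) := by
  haveI := B.atlas.affine
  intro U y hy
  refine exists_coef_of_locally (π := B.π.left) (B.atlas.coord U y hy) n _ fun x hx => ?_
  obtain ⟨U', hxU', y', hy'⟩ := B.atlas.cover ((trX a g).left.base x)
  obtain ⟨d, hd⟩ := hf U' y' hy'
  obtain ⟨c, hc⟩ := B.lift_linear U U' y y' hy hy'
  let W : X.left.Opens := U ⊓ (trX a g).left ⁻¹ᵁ U'
  let σV := lift (toUnit B.V ≫ g) (𝟙 B.V)
  let σX := lift (toUnit X ≫ g) (𝟙 X)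
  have hσ : σV.left ≫ (G ◁ B.π).left = B.π.left ≫ σX.left := by
    rw [← Over.comp_left, ← Over.comp_left, section_comm]
  have hσX : W ≤ σX.left ⁻¹ᵁ (a.act.left ⁻¹ᵁ U' ⊓ (snd G X).left ⁻¹ᵁ U) := by
    intro z hz
    refine ⟨hz.2, ?_⟩
    show (σX ≫ snd G X).left z ∈ U
    rw [lift_snd]
    exact hz.1
  have hσV : B.π.left ⁻¹ᵁ W ≤ σV.left ⁻¹ᵁ GLinSh.liftOpen a B.π U U' := fun v hv => by
    show (σV.left ≫ (G ◁ B.π).left).base v ∈ a.act.left ⁻¹ᵁ U' ⊓ (snd G X).left ⁻¹ᵁ U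
    rw [hσ]
    exact hσX hv
  have e' : B.π.left ⁻¹ᵁ W ≤ (trV B g).left ⁻¹ᵁ (B.π.left ⁻¹ᵁ U') :=
    le_preimage_of_comm (by rw [← Over.comp_left, ← Over.comp_left, trV_π]) (inf_le_right : W ≤ _)
  let cW : Γ(X.left, W) := σX.left.appLE _ W hσX c
  refine ⟨W, inf_le_left, ⟨hx, hxU'⟩,
    (trX a g).left.appLE U' W inf_le_right d * cW ^ n, ?_⟩
  have key : (trV B g).left.appLE (B.π.left ⁻¹ᵁ U') (B.π.left ⁻¹ᵁ W) e' y' =
      B.π.left.app W cW * rs (B.π.left.preimage_mono (inf_le_left : W ≤ U)) y := by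
    have h := congrArg (σV.left.appLE _ (B.π.left ⁻¹ᵁ W) hσV) hc
    rw [map_mul, ← CommRingCat.comp_apply, ← CommRingCat.comp_apply, ← CommRingCat.comp_apply,
      Scheme.Hom.appLE_comp_appLE, Scheme.Hom.appLE_comp_appLE, Scheme.Hom.appLE_comp_appLE] at h
    refine Eq.trans (congr($(LineBundle.appLE_congr_hom (show (trV B g).left = σV.left ≫ B.lift.act.left from by rw [trV, Over.comp_left]) e' _).hom y')) (h.trans ?_)
    refine congrArg₂ (· * ·) ?_ ?_
    · refine Eq.trans (congr($(LineBundle.appLE_congr_hom hσ _ ((B.π.left.preimage_mono hσX))).hom c)) ?_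
      rw [Scheme.Hom.app_eq_appLE]
      simp only [cW, ← CommRingCat.comp_apply, Scheme.Hom.appLE_comp_appLE]
    · have hs : σV.left ≫ (snd G B.V).left = 𝟙 B.V.left := by rw [← Over.comp_left, lift_snd]; rfl
      refine Eq.trans (congr($(LineBundle.appLE_congr_hom hs _ (B.π.left.preimage_mono inf_le_left)).hom y)) ?_
      simp [Scheme.Hom.appLE, rs]
      rfl
  rw [rs_appTop f e', show rs le_top f = B.π.left.app U' d * y' ^ n from hd, map_mul, map_pow, key, mul_pow,
    map_mul (B.π.left.app W).hom, map_pow, _root_.mul_assoc]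
  refine congrArg (· * _) ?_
  exact appLE_app (by rw [← Over.comp_left, ← Over.comp_left, trV_π]) inf_le_right d

end Translate

end Groth.Agent.GIT36.Proj
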