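import Groth.Agent.GIT36.Proj.Affinize
import Groth.Agent.GIT36.Proj.WeightStable
import Groth.Agent.GIT36.AffQuot.Coact
import Groth.Agent.GIT36.Mu.Fibre
import Groth.Agent.FinGrp34.PolyComod
import Groth.Agent.Hopf34.Fin
import Groth.Agent.GIT36.HM.Setup
import Groth.Prelude.Def_HMNum

/-!
Functions on the total space of a line bundle as a comodule; finite-dimensional invariant spaces of sections.
-/

set_option autoImplicit false
set_option backward.isDefEq.respectTransparency.types false
set_option linter.style.haveILetI false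
set_option linter.unusedSectionVars false

universe u

open CategoryTheory CategoryTheory.Limits MonoidalCategory CartesianMonoidalCategory MonObj GrpObj AlgebraicGeometry
  Opposite TopologicalSpace WithConv
open scoped TensorProduct
open Groth.Agent.GIT36.Sections Groth.Agent.FinSub96

noncomputable section

namespace Groth.Agent.GIT36.Proj

variable {k : Type u} [Field k] {G X : Over (Spec (CommRingCat.of k))} [GrpObj G]
  {a : AlgGrp.Action G X} (B : GLinSh.LinBun G a)

theorem quasiCompact_total [QuasiCompact X.hom] : QuasiCompact B.V.hom := by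
  haveI := B.atlas.affine
  rw [← Over.w B.π]
  infer_instance

theorem quasiSeparated_total [QuasiSeparated X.hom] : QuasiSeparated B.V.hom := by
  haveI := B.atlas.affine
  rw [← Over.w B.π]
  infer_instance

/-- a finite family of sections of one weight with affine loci covering the base -/
theorem exists_ampleFamily (hB : HMNum.AmpleCover B) :
    ∃ (I : Type u) (_ : Fintype I) (N : ℕ) (F : I → Γ(B.V.left, ⊤)) (U : I → X.left.Opens), 1 ≤ N ∧
      (∀ i, GLinSh.HasWeight B.atlas.chart N (F i)) ∧
      (∀ i, (U i : Set X.left) = GLinSh.nonvanishing B.π (F i)) ∧ (∀ i, IsAffineOpen (U i)) ∧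
      ∀ x, ∃ i, x ∈ U i := by
  classical
  haveI := B.atlas.affine
  obtain ⟨hc, hcov⟩ := hB
  choose d f hd hf hmem O hO hOa using hcov
  obtain ⟨s, hs⟩ := isCompact_univ.elim_finite_subcover (fun x => (O x : Set X.left)) (fun x => (O x).isOpen)
    (fun x _ => Set.mem_iUnion.mpr ⟨x, by rw [hO x]; exact hmem x⟩)
  let N := ∏ x ∈ s, d x
  have hN : 1 ≤ N := Finset.one_le_prod' fun x _ => hd x
  have hdvd : ∀ x : s, d x.1 ∣ N := fun x => Finset.dvd_prod_of_mem d x.2
  have hm : ∀ x : s, 0 < N / d x.1 := fun x =>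
    Nat.div_pos (Nat.le_of_dvd hN (hdvd x)) (hd x.1)
  refine ⟨s, inferInstance, N, fun x => f x.1 ^ (N / d x.1), fun x => O x.1, hN, fun x => ?_, fun x => ?_,
    fun x => hOa x.1, fun x => ?_⟩
  · have h := Atlas.Wt.pow (A := atlasB B) (hf x.1) (N / d x.1)
    rwa [Nat.div_mul_cancel (hdvd x)] at h
  · rw [hO x.1]
    exact (nv_pow (π := B.π.left) (f x.1) (hm x)).symm
  · obtain ⟨i, hi, hxi⟩ := Set.mem_iUnion₂.mp (hs (Set.mem_univ x))
    exact ⟨⟨i, hi⟩, hxi⟩

theorem cst_algebraMap (c : k) :
    algebraMap k Γ(B.V.left, ⊤) c = cst B ((Scheme.ΓSpecIso (CommRingCat.of k)).inv c) := by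
  show B.V.hom.appTop ((Scheme.ΓSpecIso (CommRingCat.of k)).inv c) = _
  rw [cst, ← CommRingCat.comp_apply X.hom.appTop, ← Scheme.Hom.comp_appTop, Over.w B.π]

/-- weight `N` functions form a subspace -/
def wtSpace (N : ℕ) : Submodule k Γ(B.V.left, ⊤) where
  carrier := {f | GLinSh.HasWeight B.atlas.chart N f}
  zero_mem' := by
    haveI := B.atlas.affine
    exact Atlas.Wt.zero (atlasB B) N
  add_mem' := by
    haveI := B.atlas.affine
    exact fun {f g} hf hg => Atlas.Wt.add (A := atlasB B) hf hg
  smul_mem' c f hf := by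
    haveI := B.atlas.affine
    rw [Algebra.smul_def, cst_algebraMap]
    have h := Atlas.Wt.mul (A := atlasB B) (inv_cst B ((Scheme.ΓSpecIso (CommRingCat.of k)).inv c)).1
      (show (atlasB B).Wt N f from hf)
    rwa [Nat.zero_add] at h

theorem wt_aeval {J : Type u} [Fintype J] {N d : ℕ} (b : J → Γ(B.V.left, ⊤))
    (hb : ∀ i, GLinSh.HasWeight B.atlas.chart N (b i)) {P : MvPolynomial J k} (hP : P.IsHomogeneous d) :
    GLinSh.HasWeight B.atlas.chart (d * N) (MvPolynomial.aeval b P) := by
  classical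
  haveI := B.atlas.affine
  have hprod : ∀ (t : Finset J) (e : J → ℕ), (atlasB B).Wt ((∑ i ∈ t, e i) * N) (∏ i ∈ t, b i ^ e i) := by
    intro t e
    induction t using Finset.induction_on with
    | empty => rw [Finset.prod_empty, Finset.sum_empty, Nat.zero_mul]; exact Atlas.Wt.one (atlasB B)
    | insert i t hi ih =>
      rw [Finset.prod_insert hi, Finset.sum_insert hi, Nat.add_mul]
      exact ((show (atlasB B).Wt N (b i) from hb i).pow (e i)).mul ih
  show MvPolynomial.aeval b P ∈ wtSpace B (d * N)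
  rw [P.as_sum, map_sum]
  refine Submodule.sum_mem _ fun m hm => ?_
  rw [MvPolynomial.aeval_monomial, ← Algebra.smul_def]
  refine Submodule.smul_mem _ _ ?_
  rw [Finsupp.prod_fintype _ _ (fun i => pow_zero _)]
  have hd := hP (MvPolynomial.mem_support_iff.1 hm)
  have : ∑ i, m i = d := by
    rw [← hd]
    simp [Finsupp.weight_apply, Finsupp.sum_fintype]
  rw [← this]
  exact hprod Finset.univ fun i => m i

section Hull

variable [QuasiCompact X.hom] [QuasiSeparated X.hom] [IsAffine G.left]

attribute [local instance] quasiCompact_total quasiSeparated_total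

theorem isIso_toHull : IsIso (toHull B.V).left.appTop := by
  rw [toHull_appTop]
  infer_instance

/-- functions on the hull are functions on the total space -/
def theta : Γ((hull B.V).left, ⊤) →ₐ[k] Γ(B.V.left, ⊤) := secMap (toHull B.V)

theorem theta_bijective : Function.Bijective (theta B) := by
  haveI := isIso_toHull B
  exact ConcreteCategory.bijective_of_isIso (toHull B.V).left.appTop

theorem inv_theta {r : Γ((hull B.V).left, ⊤)} (h : AffQuot.Inv (hullAct B.lift) r) :
    GLinSh.IsInvFn B.lift (theta B r) := by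
  show B.lift.act.left.appTop ((toHull B.V).left.appTop r) = (snd G B.V).left.appTop ((toHull B.V).left.appTop r)
  have h' := congrArg (G ◁ toHull B.V).left.appTop h
  rw [← CommRingCat.comp_apply, ← CommRingCat.comp_apply, ← Scheme.Hom.comp_appTop, ← Scheme.Hom.comp_appTop,
    ← Over.comp_left, ← Over.comp_left, whisker_hullAct, whiskerLeft_snd] at h'
  simpa using h'

variable {A : Type u} [CommRing A] [HopfAlgebra k A] (ψ : GMod80.sp k A ≅ G) [IsMonHom ψ.hom]

theorem exists_translate (g : A →ₐ[k] k) (r : Γ((hull B.V).left, ⊤)) :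
    letI := AffQuot.comod ψ (hullAct B.lift)
    haveI := AffQuot.isCoactAlg ψ (hullAct B.lift)
    ∃ g₀ : 𝟙_ (Over (Spec (CommRingCat.of k))) ⟶ G,
      theta B (FinGrp34.OrbitMap.actHom A Γ((hull B.V).left, ⊤) g r) = (trV B g₀).left.appTop (theta B r) := by
  letI := AffQuot.comod ψ (hullAct B.lift)
  haveI := AffQuot.isCoactAlg ψ (hullAct B.lift)
  let R := Γ((hull B.V).left, ⊤)
  let g' : WithConv (A →ₐ[k] R) := toConv ((Algebra.ofId k R).comp g)
  have key : (Algebra.TensorProduct.lift (AlgHom.id k R) g'.ofConv (fun _ _ => Commute.all _ _)).comp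
      (AffQuot.coact ψ (hullAct B.lift)) = FinGrp34.OrbitMap.actHom A R g := by
    refine AlgHom.ext fun s => ?_
    show _ = (Algebra.TensorProduct.rid k k R) (Algebra.TensorProduct.map (AlgHom.id k R) g
      (AffQuot.coact ψ (hullAct B.lift) s))
    rw [AlgHom.comp_apply]
    generalize AffQuot.coact ψ (hullAct B.lift) s = z
    induction z with
    | zero => simp
    | add p q hp hq => simp only [map_add, hp, hq]
    | tmul p q => simp [g', Algebra.smul_def, _root_.mul_comm]
  let e₀ := GMod80.e ψ k (toConv g)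
  let j : 𝟙_ (Over (Spec (CommRingCat.of k))) ⟶ VecGrp.pt k k := Over.homMk (𝟙 _) (by
    show 𝟙 _ ≫ Spec.map (CommRingCat.ofHom (algebraMap k k)) = 𝟙 _
    rw [show CommRingCat.ofHom (algebraMap k k) = 𝟙 _ from rfl, Spec.map_id, Category.comp_id])
  have hj : ∀ Z : Over (Spec (CommRingCat.of k)), ∀ p q : Z ⟶ VecGrp.pt k k, p = q := fun Z p q => by
    have h1 : ∀ p : Z ⟶ VecGrp.pt k k, p.left = Z.hom := fun p => by
      have := Over.w p
      change p.left ≫ Spec.map (CommRingCat.ofHom (algebraMap k k)) = Z.hom at this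
      rw [show CommRingCat.ofHom (algebraMap k k) = 𝟙 _ from rfl, Spec.map_id] at this
      exact (Category.comp_id _).symm.trans this
    exact Over.OverMorphism.ext ((h1 p).trans (h1 q).symm)
  refine ⟨(j ≫ e₀)⁻¹, ?_⟩
  have hg : GMod80.e ψ R g' = toUnit _ ≫ j ≫ e₀ := by
    rw [show GMod80.e ψ R g' = VecGrp.ptMap (Algebra.ofId k R) ≫ e₀ from
      (GMod80.e_natural ψ (Algebra.ofId k R) (toConv g)).symm, ← Category.assoc]
    exact congrArg (· ≫ e₀) (hj _ _ _)
  have hx : AffQuot.xe (FinGrp34.OrbitMap.actHom A R g) =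
      lift (toUnit _ ≫ (j ≫ e₀)⁻¹) (AffQuot.chi (hull B.V)).hom ≫ (hullAct B.lift).act := by
    rw [← key, ← AffQuot.act'_eq, AffQuot.act', AffQuot.xe_id, hg, GrpObj.comp_inv]
  show (toHull B.V).left.appTop (FinGrp34.OrbitMap.actHom A R g r) =
    (trV B _).left.appTop ((toHull B.V).left.appTop r)
  have hs := AffQuot.appTop_xe (FinGrp34.OrbitMap.actHom A R g) r
  rw [hx] at hs
  have e1 : (toHull B.V ≫ (AffQuot.chi (hull B.V)).inv) ≫ (lift (toUnit _ ≫ (j ≫ e₀)⁻¹)
      (AffQuot.chi (hull B.V)).hom ≫ (hullAct B.lift).act) = trV B (j ≫ e₀)⁻¹ ≫ toHull B.V := by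
    rw [comp_lift_assoc, trV, Category.assoc (lift _ _) B.lift.act, ← whisker_hullAct B.lift,
      lift_whiskerLeft_assoc, Category.id_comp]
    refine congrArg (· ≫ _) ?_
    ext <;> simp
  have e2 := congrArg (toHull B.V ≫ (AffQuot.chi (hull B.V)).inv).left.appTop hs
  rw [← CommRingCat.comp_apply, ← Scheme.Hom.comp_appTop, ← Over.comp_left, e1,
    Over.comp_left, Scheme.Hom.comp_appTop, CommRingCat.comp_apply] at e2
  refine Eq.trans ?_ e2.symm
  rw [Over.comp_left, Scheme.Hom.comp_appTop, CommRingCat.comp_apply]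
  refine congrArg _ ?_
  show _ = (hull B.V).left.isoSpec.hom.appTop _
  rw [show (hull B.V).left.isoSpec.hom = (hull B.V).left.toSpecΓ from rfl, Scheme.toSpecΓ_appTop]
  exact (Iso.inv_hom_id_apply (Scheme.ΓSpecIso Γ((hull B.V).left, ⊤)) _).symm

theorem isSubcomod_wtSpace [IsAlgClosed k] [Algebra.FiniteType k A] [IsReduced A] (N : ℕ) :
    letI := AffQuot.comod ψ (hullAct B.lift)
    HopfRep.IsSubcomod (k := k) (A := A) ((wtSpace B N).comap (theta B).toLinearMap) := by
  letI := AffQuot.comod ψ (hullAct B.lift)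
  haveI := AffQuot.isCoactAlg ψ (hullAct B.lift)
  refine FinGrp34.PolyComod.isSubcomod_of_stable fun g r hr => ?_
  obtain ⟨g₀, h⟩ := exists_translate B ψ g r
  show GLinSh.HasWeight B.atlas.chart N (theta B (FinGrp34.OrbitMap.actHom A _ g r))
  rw [h]
  exact hasWeight_translate B g₀ hr

/-- a finite-dimensional invariant space of sections of weight `N` containing given ones -/
theorem exists_repr [IsAlgClosed k] [Algebra.FiniteType k A] [IsReduced A] {N : ℕ} {I : Type u} [Fintype I]
    (F : I → Γ(B.V.left, ⊤)) (hF : ∀ i, GLinSh.HasWeight B.atlas.chart N (F i)) :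
    ∃ (J : Type u) (_ : Fintype J) (_ : DecidableEq J) (b : J → Γ((hull B.V).left, ⊤)) (c : J → J → A)
      (co : I → J → k),
      Comod33.Mat.IsRep (k := k) c ∧
      (∀ j, GLinSh.HasWeight B.atlas.chart N (theta B (b j))) ∧
      (∀ j, AffQuot.coact ψ (hullAct B.lift) (b j) = ∑ i, b i ⊗ₜ[k] c i j) ∧
      ∀ i, F i = ∑ j, co i j • theta B (b j) := by
  classical
  let R := Γ((hull B.V).left, ⊤)
  letI := AffQuot.comod ψ (hullAct B.lift)
  haveI := AffQuot.isCoactAlg ψ (hullAct B.lift)
  choose r hr using fun i => (theta_bijective B).2 (F i)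
  let W : Submodule k R := ⨆ i, Hopf34.gen A (r i)
  have hWsub : HopfRep.IsSubcomod (k := k) (A := A) W :=
    Hopf34.isSubcomod_iSup _ fun i => Hopf34.isSubcomod_gen (r i)
  have hWle : W ≤ (wtSpace B N).comap (theta B).toLinearMap :=
    iSup_le fun i => Hopf34.gen_le (isSubcomod_wtSpace B ψ N) (by
      show GLinSh.HasWeight B.atlas.chart N (theta B (r i))
      rw [hr i]
      exact hF i)
  have hmem : ∀ i, r i ∈ W := fun i => le_iSup (fun i => Hopf34.gen A (r i)) i (Hopf34.mem_gen _)
  let J := ULift.{u} (Fin (Module.finrank k W))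
  let b' : Module.Basis J k W := (Module.finBasis k W).reindex Equiv.ulift.symm
  have hex : ∀ j, ∃ cc : J → A, AffQuot.coact ψ (hullAct B.lift) (b' j : R) = ∑ i, (b' i : R) ⊗ₜ[k] cc i := by
    intro j
    obtain ⟨y, hy⟩ := hWsub _ (b' j).2
    obtain ⟨cc, rfl⟩ : ∃ cc : J → A, y = ∑ i, (b' i) ⊗ₜ[k] cc i := by
      clear hy
      induction y using TensorProduct.induction_on with
      | zero => exact ⟨0, by simp⟩
      | tmul w q =>
        refine ⟨fun i => b'.repr w i • q, ?_⟩
        conv_lhs => rw [← b'.sum_repr w, TensorProduct.sum_tmul]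
        simp [TensorProduct.smul_tmul]
      | add p q hp hq =>
        obtain ⟨cc, rfl⟩ := hp
        obtain ⟨cc', rfl⟩ := hq
        exact ⟨cc + cc', by simp [TensorProduct.tmul_add, Finset.sum_add_distrib]⟩
    refine ⟨cc, ?_⟩
    show HopfRep.Comod.coact (k := k) (A := A) (b' j : R) = _
    rw [← hy, map_sum]
    rfl
  choose c hc using hex
  choose π hπ using fun l : J => LinearMap.exists_extend (b'.coord l)
  have hrep : Comod33.Mat.IsRep (k := k) (fun i j => c j i) :=
    HM.isRep_of_indep (C := A) (fun i => (b' i : R)) π (fun l i => by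
      rw [show π l (b' i : R) = b'.coord l (b' i) from LinearMap.congr_fun (hπ l) (b' i),
        Module.Basis.coord_apply, b'.repr_self, Finsupp.single_apply]
      simp [eq_comm]) _ hc
  refine ⟨J, inferInstance, inferInstance, fun i => (b' i : R), fun i j => c j i,
    fun i j => b'.repr ⟨r i, hmem i⟩ j, hrep, fun j => hWle (b' j).2, hc, fun i => ?_⟩
  have h := congrArg (fun w : W => theta B (w : R)) (b'.sum_repr ⟨r i, hmem i⟩)
  simp only [Submodule.coe_sum, Submodule.coe_smul, map_sum, map_smul, hr i] at h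
  exact h.symm

end Hull

end Groth.Agent.GIT36.Proj
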