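import Groth.Prelude.Def_AlgGrp
import Mathlib.AlgebraicGeometry.Morphisms.Flat
import Mathlib.AlgebraicGeometry.Morphisms.Affine

/-!
The affine hull `Spec Γ(W, O)` of a quasi-compact quasi-separated scheme over a field with an action of an
affine group, and its induced action.
-/

set_option autoImplicit false
set_option backward.isDefEq.respectTransparency.types false
set_option linter.style.haveILetI false
set_option linter.unusedSectionVars false

universe u

open CategoryTheory CategoryTheory.Limits MonoidalCategory CartesianMonoidalCategory MonObj AlgebraicGeometry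
  Opposite

noncomputable section

namespace Groth.Agent.GIT36.Proj

variable {k : Type u} [Field k] (W : Over (Spec (CommRingCat.of k)))

/-- the affine hull -/
def hull : Over (Spec (CommRingCat.of k)) :=
  Over.mk (Spec.map ((Scheme.ΓSpecIso (CommRingCat.of k)).inv ≫ W.hom.appTop))

instance : IsAffine (hull W).left := inferInstanceAs (IsAffine (Spec Γ(W.left, ⊤)))

theorem flat_hom (Z : Over (Spec (CommRingCat.of k))) : Flat Z.hom :=
  inferInstance

/-- the canonical map to the affine hull -/
def toHull : W ⟶ hull W := Over.homMk W.left.toSpecΓ (by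
  refine ext_of_isAffine ?_
  show (W.left.toSpecΓ ≫ Spec.map ((Scheme.ΓSpecIso (CommRingCat.of k)).inv ≫ W.hom.appTop)).appTop = W.hom.appTop
  rw [Scheme.Hom.comp_appTop, Scheme.toSpecΓ_appTop, Scheme.ΓSpecIso_naturality, Iso.hom_inv_id_assoc])

theorem toHull_appTop : (toHull W).left.appTop = (Scheme.ΓSpecIso Γ(W.left, ⊤)).hom :=
  Scheme.toSpecΓ_appTop _

variable {W} [QuasiCompact W.hom] [QuasiSeparated W.hom]

theorem isPushout_sections (P : Over (Spec (CommRingCat.of k))) [IsAffine P.left] :
    IsPushout W.hom.appTop P.hom.appTop (snd P W).left.appTop (fst P W).left.appTop := by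
  haveI := flat_hom P
  have H : IsPullback (snd P W).left (fst P W).left W.hom P.hom :=
    (IsPullback.of_hasPullback P.hom W.hom).flip
  have hc : CompactSpace W.left := QuasiCompact.compactSpace_of_compactSpace W.hom
  have hq : QuasiSeparatedSpace W.left := quasiSeparatedSpace_of_quasiSeparated W.hom
  have h := (isIso_pushoutSection_iff H (US := ⊤) (UT := ⊤) (UX := ⊤) le_top le_top (UY := ⊤) (by simp)).1
    (isIso_pushoutSection_of_isQuasiSeparated_of_flat_right H _ _ _ (isAffineOpen_top _) (isAffineOpen_top _)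
      CompactSpace.isCompact_univ isQuasiSeparated_univ)
  simpa [Scheme.Hom.appLE, Scheme.Hom.appTop] using h

theorem isIso_whisker_appTop (P : Over (Spec (CommRingCat.of k))) [IsAffine P.left] :
    IsIso (P ◁ toHull W).left.appTop := by
  haveI : IsIso (toHull W).left.appTop := by rw [toHull_appTop]; infer_instance
  have h1 := isPushout_sections (W := W) P
  have h2 : IsPushout (hull W).hom.appTop P.hom.appTop (snd P (hull W)).left.appTop (fst P (hull W)).left.appTop :=
    isPushout_appTop_of_isPullback (IsPullback.of_hasPullback P.hom (hull W).hom).flip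
  have h3 : IsPushout (hull W).hom.appTop P.hom.appTop
      ((toHull W).left.appTop ≫ (snd P W).left.appTop) (fst P W).left.appTop := by
    refine h1.of_iso (Iso.refl _) (asIso (toHull W).left.appTop).symm (Iso.refl _) (Iso.refl _) ?_ (by simp) ?_ (by simp)
    · rw [Iso.symm_hom, asIso_inv, Iso.refl_hom, Category.id_comp, IsIso.comp_inv_eq, ← Scheme.Hom.comp_appTop,
        Over.w (toHull W)]
    · rw [Iso.symm_hom, asIso_inv, Iso.refl_hom, Category.comp_id, IsIso.inv_hom_id_assoc]
  have e : (P ◁ toHull W).left.appTop = (h2.isoIsPushout _ _ h3).hom := by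
    refine h2.hom_ext ?_ ?_
    · rw [IsPushout.inl_isoIsPushout_hom, ← Scheme.Hom.comp_appTop, ← Scheme.Hom.comp_appTop, ← Over.comp_left,
        ← Over.comp_left, whiskerLeft_snd]
    · rw [IsPushout.inr_isoIsPushout_hom, ← Scheme.Hom.comp_appTop, ← Over.comp_left, whiskerLeft_fst]
  rw [e]
  infer_instance

theorem whisker_cancel {P Z : Over (Spec (CommRingCat.of k))} [IsAffine P.left] [IsAffine Z.left]
    {f g : P ⊗ hull W ⟶ Z} (h : (P ◁ toHull W) ≫ f = (P ◁ toHull W) ≫ g) : f = g := by
  haveI := isIso_whisker_appTop (W := W) P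
  refine Over.OverMorphism.ext (ext_of_isAffine ?_)
  have h' := congrArg (fun m => m.left.appTop) h
  simp only [Over.comp_left, Scheme.Hom.comp_appTop] at h'
  exact (cancel_mono _).1 h'

theorem exists_factor {P Z : Over (Spec (CommRingCat.of k))} [IsAffine P.left] [IsAffine Z.left] (f : P ⊗ W ⟶ Z) :
    ∃ g : P ⊗ hull W ⟶ Z, (P ◁ toHull W) ≫ g = f := by
  haveI := isIso_whisker_appTop (W := W) P
  haveI : IsAffine (P ⊗ hull W).left := inferInstanceAs (IsAffine (pullback P.hom (hull W).hom))
  let φ : Γ(Z.left, ⊤) ⟶ Γ((P ⊗ hull W).left, ⊤) := f.left.appTop ≫ inv (P ◁ toHull W).left.appTop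
  let g' : (P ⊗ hull W).left ⟶ Z.left := (P ⊗ hull W).left.isoSpec.hom ≫ Spec.map φ ≫ Z.left.isoSpec.inv
  have hg : g'.appTop = φ := by
    have e : ∀ (Y : Scheme.{u}) [IsAffine Y], Y.isoSpec.inv.appTop = (Scheme.ΓSpecIso Γ(Y, ⊤)).inv := by
      intro Y _
      haveI : IsIso Y.isoSpec.hom.appTop := (Scheme.Γ.mapIso Y.isoSpec.op).isIso_hom
      refine (cancel_mono Y.isoSpec.hom.appTop).1 ?_
      rw [← Scheme.Hom.comp_appTop, Iso.hom_inv_id, show Y.isoSpec.hom = Y.toSpecΓ from rfl,
        Scheme.toSpecΓ_appTop, Iso.inv_hom_id]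
      rfl
    simp only [g', Scheme.Hom.comp_appTop, e]
    rw [show (P ⊗ hull W).left.isoSpec.hom = (P ⊗ hull W).left.toSpecΓ from rfl, Scheme.toSpecΓ_appTop,
      Category.assoc, Scheme.ΓSpecIso_naturality, Iso.inv_hom_id_assoc]
  have hgf : (P ◁ toHull W).left.appTop ≫ 𝟙 _ = (P ◁ toHull W).left.appTop := Category.comp_id _
  refine ⟨Over.homMk g' (ext_of_isAffine ?_), Over.OverMorphism.ext (ext_of_isAffine ?_)⟩
  · rw [← cancel_mono (P ◁ toHull W).left.appTop, Scheme.Hom.comp_appTop, hg]
    simp only [φ, Category.assoc, IsIso.inv_hom_id, Category.comp_id]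
    rw [← Scheme.Hom.comp_appTop, ← Scheme.Hom.comp_appTop, Over.w f, Over.w (P ◁ toHull W)]
  · show ((P ◁ toHull W).left ≫ g').appTop = f.left.appTop
    rw [Scheme.Hom.comp_appTop, hg]
    simp [φ]

variable {G : Over (Spec (CommRingCat.of k))} [GrpObj G] [IsAffine G.left] (a : AlgGrp.Action G W)

/-- the induced action on the affine hull -/
def hullAct : AlgGrp.Action G (hull W) where
  act := (exists_factor (a.act ≫ toHull W)).choose
  one_act := by
    have h := (exists_factor (a.act ≫ toHull W)).choose_spec
    haveI : IsAffine (𝟙_ (Over (Spec (CommRingCat.of k)))).left := inferInstanceAs (IsAffine (Spec _))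
    refine whisker_cancel ?_
    rw [whisker_exchange_assoc, h, ← Category.assoc, a.one_act, leftUnitor_naturality]
  mul_act := by
    have h := (exists_factor (a.act ≫ toHull W)).choose_spec
    haveI : IsAffine (G ⊗ G).left := inferInstanceAs (IsAffine (pullback G.hom G.hom))
    refine whisker_cancel ?_
    rw [whisker_exchange_assoc, h, ← Category.assoc, a.mul_act, associator_naturality_right_assoc,
      Category.assoc, Category.assoc, ← MonoidalCategory.whiskerLeft_comp_assoc, h,
      MonoidalCategory.whiskerLeft_comp_assoc, h]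

theorem whisker_hullAct : (G ◁ toHull W) ≫ (hullAct a).act = a.act ≫ toHull W :=
  (exists_factor (a.act ≫ toHull W)).choose_spec

end Groth.Agent.GIT36.Proj
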