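import Groth.Agent.GIT36.Sections.Pull
import Groth.Agent.GIT36.Proj.Affinize
import Mathlib.AlgebraicGeometry.Morphisms.Proper
import Mathlib.AlgebraicGeometry.Noetherian

/-!
On a proper scheme with an ample line bundle, the non-vanishing locus of a section is affine.
-/

set_option autoImplicit false
set_option backward.isDefEq.respectTransparency.types false
set_option linter.style.haveILetI false
set_option linter.unusedSectionVars false

universe u

open CategoryTheory CategoryTheory.Limits AlgebraicGeometry Opposite TopologicalSpace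
open Groth.Agent.GIT36.Sections

noncomputable section

namespace Groth.Agent.GIT36.Proj

theorem mem_closure_basicOpen {P : Scheme.{u}} {Y : Scheme.{u}} (j : Y ⟶ P) {O : P.Opens} (s : Γ(P, O))
    (h : j.appLE O (j ⁻¹ᵁ O) le_rfl s = 0) {z : P} (hz : z ∈ closure (Set.range j.base)) :
    z ∉ P.basicOpen s := by
  intro hzs
  obtain ⟨_, hw, y, rfl⟩ := mem_closure_iff.1 hz (P.basicOpen s : Set P) (P.basicOpen s).2 hzs
  have hy : y ∈ j ⁻¹ᵁ P.basicOpen s := hw
  rw [Scheme.Hom.preimage_basicOpen] at hy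
  rw [Scheme.Hom.app_eq_appLE, h, Scheme.basicOpen_zero] at hy
  exact hy

theorem isAffineOpen_nv {k : Type u} [Field k] {X : Over (Spec (CommRingCat.of k))} [IsProper X.hom]
    {V : Scheme.{u}} {π : V ⟶ X.left} [IsAffineHom π] (A : Atlas π) {I : Type u} [Finite I] {N : ℕ}
    (F : I → Γ(V, ⊤)) (hF : ∀ i, A.Wt N (F i)) (hN : 1 ≤ N) (U : I → X.left.Opens)
    (hU : ∀ i, (U i : Set X.left) = nv π (F i)) (hUa : ∀ i, IsAffineOpen (U i))
    (hcov : ∀ x, ∃ i, x ∈ U i) {M : ℕ} {f : Γ(V, ⊤)} (hf : A.Wt M f) (hM : 1 ≤ M) {Uf : X.left.Opens}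
    (hUf : (Uf : Set X.left) = nv π f) : IsAffineOpen Uf := by
  classical
  haveI : IsLocallyNoetherian X.left := LocallyOfFiniteType.isLocallyNoetherian X.hom
  haveI : CompactSpace X.left := QuasiCompact.compactSpace_of_compactSpace X.hom
  haveI : IsNoetherian X.left := {}
  haveI : NoetherianSpace X.left := inferInstance
  haveI : CompactSpace Uf.toScheme := (NoetherianSpace.isCompact (Uf : Set X.left)) |> isCompact_iff_compactSpace.1
  have hG : ∀ i, A.Wt (M * N) (F i ^ M) := fun i => (hF i).pow M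
  have hg : A.Wt (M * N) (f ^ N) := by rw [Nat.mul_comm]; exact hf.pow N
  have hUg : (Uf : Set X.left) = nv π (f ^ N) := by rw [hUf, nv_pow f hN]
  have hUG : ∀ i, (U i : Set X.left) = nv π (F i ^ M) := fun i => by rw [hU i, nv_pow (F i) hM]
  choose r hr using fun i => exists_ratio (A := A) (hf := hg) (hg := hG i) (D := Uf) hUg.le
  choose u hu using fun i => exists_ratio (A := A) (hf := hG i) (hg := hg) (D := U i) (hUG i).le
  have hprod : ∀ i, rs (inf_le_left : Uf ⊓ U i ≤ Uf) (r i) * rs (inf_le_right : Uf ⊓ U i ≤ U i) (u i) = 1 :=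
    fun i => by
      refine ratio_unique (A := A) (hf := hg) (W := Uf ⊓ U i) (fun x hx => hUg.le hx.1) ?_
      have h1 := (hr i).res (inf_le_left : Uf ⊓ U i ≤ Uf)
      have h2 := (hu i).res (inf_le_right : Uf ⊓ U i ≤ U i)
      rw [map_one, one_mul, map_mul, mul_right_comm, show _ * rs le_top (f ^ N) = _ from h1, mul_comm]
      exact h2
  have hbo : ∀ i, X.left.basicOpen (r i) = Uf ⊓ U i := fun i => by
    ext1
    rw [IsRatio.basicOpen (A := A) (hf := hg) (hg := hG i) hUg.le (hr i), Opens.coe_inf, hUG i]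
  refine isAffineOpen_of_isAffineOpen_basicOpen Uf (Set.range r) ?_ ?_
  swap
  · rintro _ ⟨i, rfl⟩
    have e : X.left.basicOpen (r i) = X.left.basicOpen (u i) := by
      ext1
      rw [hbo i, IsRatio.basicOpen (A := A) (hf := hG i) (hg := hg) (hUG i).le (hu i), Opens.coe_inf,
        Set.inter_comm, hUg]
    rw [e]
    exact (hUa i).basicOpen _
  by_contra hne
  obtain ⟨q, hq, hle⟩ := Ideal.exists_le_maximal _ hne
  let W : Over (Spec (CommRingCat.of k)) := Over.mk (Uf.ι ≫ X.hom)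
  let Z := hull W
  let τ := Uf.topIso
  let P : Scheme.{u} := pullback X.hom Z.hom
  let p₁ : P ⟶ X.left := pullback.fst X.hom Z.hom
  let p₂ : P ⟶ Z.left := pullback.snd X.hom Z.hom
  let j : Uf.toScheme ⟶ P := pullback.lift Uf.ι (toHull W).left (Over.w (toHull W)).symm
  have hj₁ : j ≫ p₁ = Uf.ι := pullback.lift_fst _ _ _
  have hj₂ : j ≫ p₂ = Uf.toScheme.toSpecΓ := pullback.lift_snd _ _ _
  -- the projection of the closure of the graph is everything
  have hsurj : ∀ z : Z.left, ∃ w ∈ closure (Set.range j.base), p₂.base w = z := by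
    intro z
    have hclosed : IsClosed (p₂.base '' closure (Set.range j.base)) :=
      p₂.isClosedMap _ isClosed_closure
    suffices z ∈ p₂.base '' closure (Set.range j.base) from this
    refine hclosed.closure_subset_iff.2 Set.Subset.rfl (closure_mono (s := Set.range (j ≫ p₂).base) ?_ ?_)
    · rintro _ ⟨y, rfl⟩
      exact ⟨j.base y, subset_closure ⟨y, rfl⟩, rfl⟩
    · rw [mem_closure_iff]
      intro O hO hzO
      obtain ⟨_, ⟨g, rfl⟩, hzg, hgO⟩ :=
        (PrimeSpectrum.isTopologicalBasis_basic_opens).exists_subset_of_mem_open hzO hO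
      have hg0 : ¬ IsNilpotent g := fun hn => by
        have : z ∈ PrimeSpectrum.basicOpen g := hzg
        rw [(PrimeSpectrum.basicOpen_eq_bot_iff g).2 hn] at this
        exact this
      obtain ⟨y, hy⟩ : (Uf.toScheme.basicOpen g : Set Uf.toScheme).Nonempty := by
        by_contra h0
        refine hg0 ((Scheme.isNilpotent_iff_basicOpen_eq_bot (X := Uf.toScheme) g).2 ?_)
        ext1
        exact Set.not_nonempty_iff_eq_empty.1 h0
      refine ⟨(j ≫ p₂).base y, hgO ?_, y, rfl⟩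
      rw [hj₂]
      rw [← Scheme.toSpecΓ_preimage_basicOpen] at hy
      exact hy
  -- a point over the maximal ideal
  let qz : Z.left := (⟨q.comap τ.hom.hom, Ideal.comap_isPrime _ _⟩ : PrimeSpectrum Γ(Uf.toScheme, ⊤))
  obtain ⟨w, hw, hwz⟩ := hsurj qz
  obtain ⟨i, hi⟩ := hcov (p₁.base w)
  let ρ : Γ(Uf.toScheme, ⊤) := τ.inv (r i)
  let R : Γ(P, ⊤) := p₂.appTop ((Scheme.ΓSpecIso Γ(Uf.toScheme, ⊤)).inv ρ)
  let O : P.Opens := p₁ ⁻¹ᵁ U i
  let φ : Γ(P, O) := p₁.app (U i) (u i) * rs le_top R - 1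
  have hwR : w ∉ P.basicOpen (rs (le_top : O ≤ ⊤) R) := by
    rw [P.basicOpen_res]
    rintro ⟨-, h⟩
    rw [← Scheme.Hom.preimage_basicOpen_top] at h
    replace h : p₂.base w ∈ Z.left.basicOpen ((Scheme.ΓSpecIso Γ(Uf.toScheme, ⊤)).inv ρ) := h
    rw [hwz] at h
    change qz ∈ (Spec Γ(Uf.toScheme, ⊤)).basicOpen ((Scheme.ΓSpecIso Γ(Uf.toScheme, ⊤)).inv ρ) at h
    rw [basicOpen_eq_of_affine] at h
    refine h ?_
    show τ.hom (τ.inv (r i)) ∈ q
    rw [← CommRingCat.comp_apply, Iso.inv_hom_id]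
    exact hle (Ideal.subset_span ⟨i, rfl⟩)
  have hwφ : w ∉ P.basicOpen φ := by
    refine mem_closure_basicOpen j φ ?_ hw
    have e1 : j ⁻¹ᵁ O = Uf.ι ⁻¹ᵁ U i := by rw [← hj₁]; rfl
    have h1 : j.appLE O (j ⁻¹ᵁ O) le_rfl (p₁.app (U i) (u i)) =
        Uf.ι.appLE (U i) (j ⁻¹ᵁ O) e1.le (u i) := by
      rw [← CommRingCat.comp_apply, Scheme.Hom.app_eq_appLE, Scheme.Hom.appLE_comp_appLE]
      exact congr($(LineBundle.appLE_congr_hom hj₁ _ _).hom (u i))
    have h2 : j.appLE O (j ⁻¹ᵁ O) le_rfl (rs le_top R) = rs le_top ρ := by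
      rw [← rs_appTop R le_rfl]
      refine congrArg (rs le_top) ?_
      show j.appTop (p₂.appTop _) = ρ
      rw [← CommRingCat.comp_apply, ← Scheme.Hom.comp_appTop, hj₂]
      erw [Scheme.toSpecΓ_appTop Uf.toScheme]
      exact congr($((Scheme.ΓSpecIso Γ(Uf.toScheme, ⊤)).inv_hom_id) ρ)
    rw [map_sub, map_mul, map_one, h1, h2, sub_eq_zero]
    have h3 := congrArg (Uf.ι.appLE (Uf ⊓ U i) (j ⁻¹ᵁ O) (by
      rw [e1]; exact fun y hy => ⟨y.2, hy⟩)) (hprod i)
    rw [map_mul, map_one, mul_comm] at h3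
    refine Eq.trans ?_ h3
    refine congrArg₂ (· * ·) ?_ ?_
    · rw [rs, ← CommRingCat.comp_apply, Scheme.Hom.map_appLE]
    · rw [rs, rs, ← CommRingCat.comp_apply _ (Uf.ι.appLE _ _ _), Scheme.Hom.map_appLE, Scheme.Opens.ι_appLE]
      simp only [ρ, τ, Scheme.Opens.topIso_inv, ← CommRingCat.comp_apply, Scheme.Opens.toScheme_presheaf_map,
        ← Functor.map_comp]
      erw [← X.left.presheaf.map_comp]
      exact congrArg (fun m => X.left.presheaf.map m (r i)) (Subsingleton.elim _ _)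
  have hwO : w ∈ O := hi
  rw [← P.evaluation_eq_zero_iff_notMem_basicOpen w hwO] at hwR hwφ
  rw [map_sub, map_mul, map_one, hwR, mul_zero, zero_sub, neg_eq_zero] at hwφ
  exact one_ne_zero hwφ

end Groth.Agent.GIT36.Proj
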