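import Groth.Agent.GIT36.Mu.Weight
import Groth.Agent.GIT36.AffQuot.Coact
import Groth.Agent.GIT36.HM.Criterion

/-!
One-parameter subgroups from bialgebra maps to Laurent polynomials.
-/

set_option autoImplicit false
set_option backward.isDefEq.respectTransparency.types false
set_option linter.style.haveILetI false
set_option linter.unusedSectionVars false

universe u

open CategoryTheory CategoryTheory.Limits MonoidalCategory CartesianMonoidalCategory MonObj GrpObj AlgebraicGeometry
  Opposite WithConv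
open scoped TensorProduct LaurentPolynomial
open LaurentPolynomial

noncomputable section

namespace Groth.Agent.GIT36.Proj

open Groth.Agent.GIT36.HM Groth.Agent.GIT36.Mu Groth.Agent.GIT36.AffQuot Groth.Agent.FinSub96

variable {k : Type u} [Field k] {A : Type u} [CommRing A] [HopfAlgebra k A] (lam : A →ₐc[k] k[T;T⁻¹])

/-- the point of the group at a parameter in an algebra -/
def lamB {S : Type u} [CommRing S] [Algebra k S] (s : Sˣ) : WithConv (A →ₐ[k] S) :=
  toConv ((evalT s).comp (lam : A →ₐ[k] k[T;T⁻¹]))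

theorem lamB_mul {S : Type u} [CommRing S] [Algebra k S] (s t : Sˣ) :
    lamB lam s * lamB lam t = lamB lam (s * t) := by
  refine WithConv.ofConv_injective (AlgHom.ext fun a => ?_)
  rw [AlgHom.convMul_apply]
  have h : (Algebra.TensorProduct.lift (evalT (k := k) s) (evalT t) fun _ _ => Commute.all _ _).comp
      (Bialgebra.comulAlgHom k k[T;T⁻¹]) = evalT (s * t) := by
    refine AlgHom.ext fun z => ?_
    induction z using LaurentPolynomial.induction_on' with
    | add p q hp hq => rw [map_add, map_add, hp, hq]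
    | C_mul_T m c =>
      rw [map_mul, map_mul, LaurentPolynomial.C_eq_algebraMap, AlgHom.commutes, AlgHom.commutes,
        AlgHom.comp_apply, comulAlgHom_T, Algebra.TensorProduct.lift_tmul, evalT_T, evalT_T, evalT_T, mul_zpow,
        Units.val_mul]
  show _ = evalT (s * t) (lam a)
  rw [← h, AlgHom.comp_apply, Bialgebra.comulAlgHom_apply, ← CoalgHomClass.map_comp_comul_apply lam a]
  induction Coalgebra.comul (R := k) a using TensorProduct.induction_on with
  | zero => simp
  | tmul p q => simp [lamB]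
  | add p q hp hq => simp only [map_add, hp, hq]

theorem evalT_natural {S S' : Type u} [CommRing S] [Algebra k S] [CommRing S'] [Algebra k S'] (φ : S →ₐ[k] S')
    (s : Sˣ) : φ.comp (evalT (k := k) s) = evalT (Units.map φ.toMonoidHom s) := by
  refine AlgHom.ext fun z => ?_
  induction z using LaurentPolynomial.induction_on' with
  | add p q hp hq => rw [map_add, map_add, hp, hq]
  | C_mul_T m c =>
    rw [AlgHom.comp_apply, map_mul, map_mul, map_mul, LaurentPolynomial.C_eq_algebraMap, AlgHom.commutes,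
      AlgHom.commutes, AlgHom.commutes, evalT_T, evalT_T, ← map_zpow]
    rfl

theorem isAffine_gm : IsAffine (Red.Gm (St k)).left := isAffine_of_isAffineHom (Red.Gm (St k)).hom

attribute [local instance] isAffine_gm

variable {G : Over (St k)} [GrpObj G] (ψ : GMod80.sp k A ≅ G) [IsMonHom ψ.hom]

/-- the one-parameter subgroup -/
def lamGm : Red.Gm (St k) ⟶ G :=
  (chi (Red.Gm (St k))).inv ≫
    GMod80.e ψ Γ((Red.Gm (St k)).left, ⊤) (lamB lam (GmPts.unitOfPt (𝟙 (Red.Gm (St k))))⁻¹)

theorem comp_lamGm {B : Type u} [CommRing B] [Algebra k B] (φ : Γ((Red.Gm (St k)).left, ⊤) →ₐ[k] B) :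
    xe φ ≫ lamGm lam ψ =
      GMod80.e ψ B (lamB lam (Units.map φ.toMonoidHom (GmPts.unitOfPt (𝟙 (Red.Gm (St k)))))⁻¹) := by
  rw [xe, lamGm, Category.assoc, Iso.hom_inv_id_assoc, GMod80.e_natural, lamB, lamB, ofConv_toConv,
    ← AlgHom.comp_assoc, evalT_natural, map_inv]

theorem unit_xe {B : Type u} [CommRing B] [Algebra k B] (φ : Γ((Red.Gm (St k)).left, ⊤) →ₐ[k] B) :
    ((Units.map φ.toMonoidHom (GmPts.unitOfPt (𝟙 (Red.Gm (St k)))) : Bˣ) : B) =
      (Scheme.ΓSpecIso (CommRingCat.of B)).hom (Red.gmFn (xe φ)) := by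
  have h := appTop_xe φ (Red.gmFn (𝟙 (Red.Gm (St k))))
  rw [← GmPts.gmFn_comp, Category.comp_id] at h
  rw [h]
  exact (Iso.inv_hom_id_apply (Scheme.ΓSpecIso (CommRingCat.of B)) _).symm

theorem lamGm_mul_pt {Z : Over (St k)} [IsAffine Z.left] (g g' : Z ⟶ Red.Gm (St k)) :
    (g * g') ≫ lamGm lam ψ = (g ≫ lamGm lam ψ) * (g' ≫ lamGm lam ψ) := by
  rw [← cancel_epi (chi Z).hom, MonObj.comp_mul (chi Z).hom, ← Category.assoc, MonObj.comp_mul,
    ← Category.assoc (chi Z).hom g, ← Category.assoc (chi Z).hom g']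
  obtain ⟨φ, hφ⟩ := xe_surjective ((chi Z).hom ≫ g)
  obtain ⟨φ', hφ'⟩ := xe_surjective ((chi Z).hom ≫ g')
  obtain ⟨φ'', hφ''⟩ := xe_surjective ((chi Z).hom ≫ g * (chi Z).hom ≫ g')
  rw [← hφ'', ← hφ, ← hφ', comp_lamGm, comp_lamGm, comp_lamGm, ← map_mul (GMod80.e ψ _), lamB_mul]
  rw [← _root_.mul_inv]
  congr 3
  ext1
  rw [Units.val_mul, unit_xe, unit_xe, unit_xe, ← map_mul, hφ'', ← hφ, ← hφ', GmPts.gmFn_mul]

theorem lamGm_one_pt {Z : Over (St k)} [IsAffine Z.left] : (1 : Z ⟶ Red.Gm (St k)) ≫ lamGm lam ψ = 1 := by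
  have h := lamGm_mul_pt lam ψ (1 : Z ⟶ Red.Gm (St k)) 1
  rw [_root_.one_mul] at h
  exact left_eq_mul.1 h

instance : IsMonHom (lamGm lam ψ) where
  one_hom := by
    haveI : IsAffine (𝟙_ (Over (St k))).left := inferInstanceAs (IsAffine (Spec _))
    have h := lamGm_one_pt (Z := 𝟙_ (Over (St k))) lam ψ
    simpa [MonObj.one_eq_one] using h
  mul_hom := by
    haveI : IsAffine (Red.Gm (St k) ⊗ Red.Gm (St k)).left :=
      inferInstanceAs (IsAffine (pullback (Red.Gm (St k)).hom (Red.Gm (St k)).hom))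
    have h := lamGm_mul_pt lam ψ (fst (Red.Gm (St k)) (Red.Gm (St k))) (snd _ _)
    rw [Hom.mul_def, lift_fst_snd, Category.id_comp, Hom.mul_def] at h
    rw [h, tensorHom_def' (lamGm lam ψ)]
    congr 1
    ext <;> simp

end Groth.Agent.GIT36.Proj
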