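import Groth.Agent.GIT36.Mu.Fibre
import Groth.Agent.GIT36.Stab.Fibre
import Groth.Agent.GIT36.Sections.Good

/-!
Stabilisers of rational points: finiteness through rational points, and geometric points over a rational point.
-/

set_option autoImplicit false
set_option backward.isDefEq.respectTransparency.types false
set_option linter.style.haveILetI false
set_option linter.unusedSectionVars false

universe u

open CategoryTheory CategoryTheory.Limits MonoidalCategory CartesianMonoidalCategory MonObj GrpObj AlgebraicGeometry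
  Opposite TopologicalSpace
open Groth.Agent.GIT36.Mu

noncomputable section

namespace Groth.Agent.GIT36.Proj

variable {k : Type u} [Field k] [IsAlgClosed k] {G X : Over (St k)} [GrpObj G] (a : AlgGrp.Action G X)

theorem pt_psi (m : Pt k ⟶ G) {T : Over (St k)} (t : Pt k ⟶ T) (f : T ⟶ X) :
    lift m t ≫ GIT.psi a f = lift (lift m (t ≫ f) ≫ a.act) t := by
  rw [GIT.psi, comp_lift, lift_whiskerLeft_assoc, lift_snd]

variable [LocallyOfFiniteType G.hom] [QuasiCompact G.hom] [IsSeparated X.hom]

theorem finiteness_stabTo (x : Pt k ⟶ X) :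
    LocallyOfFiniteType (GLinSh.stabTo a x) ∧ QuasiCompact (GLinSh.stabTo a x) := by
  haveI : IsIso (Pt k).hom := inferInstanceAs (IsIso (𝟙 (St k)))
  haveI h1 : LocallyOfFiniteType (GIT.psi a x).left := by
    haveI : LocallyOfFiniteType ((GIT.psi a x).left ≫ (X ⊗ Pt k).hom) := by
      rw [Over.w (GIT.psi a x)]
      show LocallyOfFiniteType (pullback.fst G.hom (Pt k).hom ≫ G.hom)
      infer_instance
    exact locallyOfFiniteType_of_comp (GIT.psi a x).left (X ⊗ Pt k).hom
  haveI h2 : QuasiCompact (GIT.psi a x).left := by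
    haveI : IsSeparated (X ⊗ Pt k).hom :=
      inferInstanceAs (IsSeparated (pullback.fst X.hom (Pt k).hom ≫ X.hom))
    haveI : QuasiCompact ((GIT.psi a x).left ≫ (X ⊗ Pt k).hom) := by
      rw [Over.w (GIT.psi a x)]
      show QuasiCompact (pullback.fst G.hom (Pt k).hom ≫ G.hom)
      infer_instance
    exact QuasiCompact.of_comp (GIT.psi a x).left (X ⊗ Pt k).hom
  exact ⟨inferInstanceAs (LocallyOfFiniteType (pullback.snd _ _)), inferInstanceAs (QuasiCompact (pullback.snd _ _))⟩

/-- finitely many rational fixers make the stabiliser finite -/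
theorem isFinite_stabTo_of_pts (x : Pt k ⟶ X) (h : {g : Pt k ⟶ G | lift g x ≫ a.act = x}.Finite) :
    IsFinite (GLinSh.stabTo a x) := by
  obtain ⟨hft, hqc⟩ := finiteness_stabTo a x
  let f : GLinSh.stab a x ⟶ Spec (CommRingCat.of k) := GLinSh.stabTo a x
  haveI : LocallyOfFiniteType f := hft
  haveI : QuasiCompact f := hqc
  haveI : JacobsonSpace (GLinSh.stab a x) := LocallyOfFiniteType.jacobsonSpace f
  let σ : {s : Spec (CommRingCat.of k) ⟶ GLinSh.stab a x // s ≫ f = 𝟙 _} → (Pt k ⟶ G ⊗ Pt k) := fun s =>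
    Over.homMk (s.1 ≫ Stab.stGP a x) (by
      show (s.1 ≫ Stab.stGP a x) ≫ (G ⊗ Pt k).hom = 𝟙 _
      rw [← Over.w (snd G (Pt k)), ← Category.assoc, Category.assoc s.1, Stab.stGP_snd]
      rw [s.2]
      exact Category.id_comp _)
  have hmem : ∀ s, σ s ≫ fst G (Pt k) ∈ {g : Pt k ⟶ G | lift g x ≫ a.act = x} := by
    intro s
    have e : σ s = lift (σ s ≫ fst G (Pt k)) (𝟙 _) := by
      apply CartesianMonoidalCategory.hom_ext
      · rw [lift_fst]
      · exact toUnit_unique _ _
    have h2 : lift (σ s ≫ fst G (Pt k)) x = σ s ≫ (G ◁ x) := by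
      conv_rhs => rw [e, lift_whiskerLeft, Category.id_comp]
    show lift (σ s ≫ fst G (Pt k)) x ≫ a.act = x
    rw [h2, Category.assoc]
    refine Over.OverMorphism.ext ?_
    show (s.1 ≫ Stab.stGP a x) ≫ (G ◁ x).left ≫ a.act.left = x.left
    rw [Category.assoc, Stab.stGP_act, ← Category.assoc, s.2]
    exact Category.id_comp _
  have hinj : Function.Injective fun s => σ s ≫ fst G (Pt k) := by
    intro s s' e
    have e' : σ s = σ s' := CartesianMonoidalCategory.hom_ext _ _ e (toUnit_unique _ _)
    exact Subtype.ext (pullback.hom_ext (congrArg (·.left) e') (s.2.trans s'.2.symm))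
  haveI : Finite {s : Spec (CommRingCat.of k) ⟶ GLinSh.stab a x // s ≫ f = 𝟙 _} := by
    haveI := h.to_subtype
    exact Finite.of_injective (fun s => (⟨_, hmem s⟩ : {g : Pt k ⟶ G | lift g x ≫ a.act = x}))
      fun s s' e => hinj (congrArg Subtype.val e)
  have hcp : (closedPoints (GLinSh.stab a x)).Finite := by
    haveI : Finite (closedPoints (GLinSh.stab a x)) := Finite.of_equiv _ (pointEquivClosedPoint f)
    exact Set.toFinite _
  haveI : DiscreteTopology (GLinSh.stab a x) := JacobsonSpace.discreteTopology hcp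
  haveI : Finite (GLinSh.stab a x) := by
    have : closedPoints (GLinSh.stab a x) = Set.univ := Set.eq_univ_of_forall fun z => isClosed_discrete _
    exact Set.finite_univ_iff.mp (this ▸ hcp)
  haveI : LocallyQuasiFinite f := LocallyQuasiFinite.of_finite_preimage_singleton f fun _ => Set.toFinite _
  show IsFinite f
  exact IsFinite.of_locallyQuasiFinite f

/-- a finite stabiliser has finitely many rational points -/
theorem finite_pts_of_isFinite (x : Pt k ⟶ X) (h : IsFinite (GLinSh.stabTo a x)) :
    {g : Pt k ⟶ G | lift g x ≫ a.act = x}.Finite := by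
  let f : GLinSh.stab a x ⟶ Spec (CommRingCat.of k) := GLinSh.stabTo a x
  haveI : IsFinite f := h
  haveI : Finite (GLinSh.stab a x) := by
    haveI : Subsingleton (Spec (CommRingCat.of k)) := inferInstanceAs (Subsingleton (PrimeSpectrum k))
    refine Set.finite_univ_iff.mp ((f.finite_preimage_singleton (IsLocalRing.closedPoint k)).subset fun z _ => ?_)
    exact Subsingleton.elim _ _
  haveI : Finite {s : Spec (CommRingCat.of k) ⟶ GLinSh.stab a x // s ≫ f = 𝟙 _} :=
    Finite.of_equiv _ (pointEquivClosedPoint f).symm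
  let τ : {g : Pt k ⟶ G | lift g x ≫ a.act = x} → {s : Spec (CommRingCat.of k) ⟶ GLinSh.stab a x // s ≫ f = 𝟙 _} :=
    fun g => ⟨pullback.lift (lift g.1 (𝟙 _)).left (𝟙 _) (by
      rw [← Over.comp_left, pt_psi, Category.id_comp, show lift g.1 x ≫ a.act = x from g.2]
      exact (Category.id_comp _).symm), pullback.lift_snd _ _ _⟩
  refine Set.finite_coe_iff.mp (Finite.of_injective τ ?_)
  intro g g' e
  have h1 := congrArg (fun s => s.1 ≫ Stab.stGP a x) e
  simp only [τ] at h1
  erw [pullback.lift_fst, pullback.lift_fst] at h1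
  have h2 := congrArg (· ≫ fst G (Pt k)) (Over.OverMorphism.ext h1)
  simp only [lift_fst] at h2
  exact Subtype.ext h2

omit [LocallyOfFiniteType G.hom] [QuasiCompact G.hom] [IsSeparated X.hom] in
/-- a geometric point over a rational point is the constant point -/
theorem eq_const_of_range {T : Over (St k)} {Ω : Type u} [Field Ω] (eT : T.left ≅ Spec (CommRingCat.of Ω))
    (f : T ⟶ X) (x : Pt k ⟶ X) (hf : Set.range f.left.base = {x.left.base (IsLocalRing.closedPoint k)}) :
    f = toUnit T ≫ x := by
  haveI : Subsingleton (Pt k).left := inferInstanceAs (Subsingleton (PrimeSpectrum k))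
  haveI : IsReduced (Spec (CommRingCat.of Ω)) := inferInstance
  haveI : IsReduced T.left := isReduced_of_isOpenImmersion eT.hom
  obtain ⟨U, hU, hxU, -⟩ := exists_isAffineOpen_mem_and_subset
    (x := x.left (IsLocalRing.closedPoint k)) (U := (⊤ : X.left.Opens)) trivial
  have hpt : ∀ {p : T ⟶ X}, Set.range p.left.base = {x.left.base (IsLocalRing.closedPoint k)} →
      ∀ z, p.left z = x.left (IsLocalRing.closedPoint k) := fun hp z => hp.subset ⟨z, rfl⟩
  have hx' : Set.range (toUnit T ≫ x).left.base = {x.left.base (IsLocalRing.closedPoint k)} := by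
    haveI : Nonempty T.left := ⟨eT.inv (IsLocalRing.closedPoint Ω)⟩
    refine Set.eq_singleton_iff_unique_mem.2 ⟨?_, ?_⟩
    · obtain ⟨z⟩ := (inferInstance : Nonempty T.left)
      exact ⟨z, by rw [Over.comp_left, Scheme.Hom.comp_apply]; exact congrArg _ (Subsingleton.elim _ _)⟩
    · rintro _ ⟨z, rfl⟩
      rw [Over.comp_left, Scheme.Hom.comp_apply]
      exact congrArg _ (Subsingleton.elim _ _)
  have hle : ∀ {p : T ⟶ X}, Set.range p.left.base = {x.left.base (IsLocalRing.closedPoint k)} →
      ⊤ ≤ p.left ⁻¹ᵁ U := fun hp z _ => by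
    show _ ∈ U
    rw [hpt hp z]
    exact hxU
  have hev : ∀ {p : T ⟶ X} (hp : Set.range p.left.base = {x.left.base (IsLocalRing.closedPoint k)})
      (s : Γ(X.left, U)), ev p (hle hp) s = cst T (val x (pt_mem x hxU) s) := by
    intro p hp s
    let c := val x (pt_mem x hxU) s
    let s' := s - X.left.presheaf.map (homOfLE (le_top : U ≤ ⊤)).op (cst X c)
    have h0 : x.left (IsLocalRing.closedPoint k) ∉ X.left.basicOpen s' := by
      intro hmem
      refine (mem_basicOpen_iff_val x (pt_mem x hxU) s').mp hmem ?_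
      rw [map_sub, val_res, ← gv_eq_val, gv_cst, sub_self]
    have h1 : T.left.basicOpen (ev p (hle hp) s') = ⊥ := by
      ext z
      refine ⟨fun hz => h0 ?_, fun hz => hz.elim⟩
      have hz' : z ∈ p.left ⁻¹ᵁ X.left.basicOpen s' := by
        have := Scheme.basicOpen_appLE p.left ⊤ U (hle hp) s'
        exact (this.symm ▸ hz : z ∈ ⊤ ⊓ p.left ⁻¹ᵁ X.left.basicOpen s').2
      rw [← hpt hp z]
      exact hz'
    have h2 := eq_zero_of_basicOpen_eq_bot _ h1
    rw [map_sub, sub_eq_zero, ev_res, ev_top, appTop_cst] at h2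
    exact h2
  refine Over.OverMorphism.ext ?_
  have hr : ∀ {p : T ⟶ X}, Set.range p.left.base = {x.left.base (IsLocalRing.closedPoint k)} →
      Set.range p.left ⊆ Set.range U.ι := fun hp => by
    rw [Scheme.Opens.range_ι]
    rintro _ ⟨z, rfl⟩
    exact hle hp trivial
  rw [← IsOpenImmersion.lift_fac U.ι f.left (hr hf), ← IsOpenImmersion.lift_fac U.ι (toUnit T ≫ x).left (hr hx')]
  congr 1
  haveI : IsAffine U := hU
  refine ext_of_isAffine ?_
  ext s
  obtain ⟨s, rfl⟩ := (ConcreteCategory.bijective_of_isIso (U.ι.appLE U ⊤ U.ι_preimage_self.ge)).2 s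
  have key : ∀ {p : T ⟶ X} (hp : Set.range p.left.base = {x.left.base (IsLocalRing.closedPoint k)}),
      (IsOpenImmersion.lift U.ι p.left (hr hp)).appTop (U.ι.appLE U ⊤ U.ι_preimage_self.ge s) =
        ev p (hle hp) s := by
    intro p hp
    show (U.ι.appLE U ⊤ U.ι_preimage_self.ge ≫ (IsOpenImmersion.lift U.ι p.left (hr hp)).appTop) s =
      p.left.appLE U ⊤ (hle hp) s
    rw [show (IsOpenImmersion.lift U.ι p.left (hr hp)).appTop =
      (IsOpenImmersion.lift U.ι p.left (hr hp)).appLE ⊤ ⊤ le_top from Scheme.Hom.app_eq_appLE _,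
      Scheme.Hom.appLE_comp_appLE]
    simp only [IsOpenImmersion.lift_fac]
  rw [key hf, key hx', hev hf, hev hx']

omit [LocallyOfFiniteType G.hom] [QuasiCompact G.hom] [IsSeparated X.hom] in
/-- finiteness of the stabiliser passes to constant geometric points -/
theorem isFinite_stabTo_comp {T P : Over (St k)} (t : T ⟶ P) (f : P ⟶ X) (h : IsFinite (GLinSh.stabTo a f)) :
    IsFinite (GLinSh.stabTo a (t ≫ f)) := by
  have e : ∀ {P : Over (St k)} (f : P ⟶ X), GLinSh.stabTo a f = (Stab.stabIso a f).hom ≫ pullback.snd _ _ :=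
    fun f => (pullback.lift_snd _ _ _).symm
  haveI h1 : IsFinite (pullback.snd (Groth.Agent.H98EqInt.stToX a) f.left) := by
    rwa [e f, MorphismProperty.cancel_left_of_respectsIso @IsFinite] at h
  rw [e, MorphismProperty.cancel_left_of_respectsIso @IsFinite]
  simp only [Over.comp_left]
  rw [← pullbackLeftPullbackSndIso_inv_snd_snd (Groth.Agent.H98EqInt.stToX a) f.left t.left,
    MorphismProperty.cancel_left_of_respectsIso @IsFinite]
  infer_instance

end Groth.Agent.GIT36.Proj
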