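import Groth.Agent.GIT36.Proj.Semistable
import Groth.Agent.GIT36.Proj.StabPts

/-!
Limits of orbits of one-parameter subgroups of weight zero stay in the invariant affine locus and in the closed orbit.
-/

set_option autoImplicit false
set_option backward.isDefEq.respectTransparency.types false
set_option linter.style.haveILetI false
set_option linter.unusedSectionVars false

universe u

open CategoryTheory CategoryTheory.Limits MonoidalCategory CartesianMonoidalCategory MonObj GrpObj AlgebraicGeometry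
  Opposite TopologicalSpace Filter
open Groth.Agent.GIT36.Mu

noncomputable section

namespace Groth.Agent.GIT36.Proj

variable {k : Type u} [Field k] [IsAlgClosed k]

/-- a sum of powers without negative exponents is regular at zero -/
theorem isReg_lsum {κ : Type*} {J : Finset κ} {a : κ → k} {e : κ → ℤ} (h : ∀ N < 0, cls J a e N = 0) :
    IsReg (fun u => lsum J a e u) (cls J a e 0) := by
  obtain ⟨K, -, hK⟩ := exists_shift_bound J e 0
  obtain ⟨P, hP⟩ : (Polynomial.X : Polynomial k) ^ K ∣ shiftPoly J a e K :=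
    Polynomial.X_pow_dvd_iff.mpr fun i hi => by
      rw [shiftPoly_coeff J a e hK]
      exact h _ (by omega)
  have h0 : P.eval 0 = cls J a e 0 := by
    have h1 := shiftPoly_coeff J a e hK K
    rw [hP, sub_self] at h1
    rw [← h1, ← Polynomial.coeff_zero_eq_eval_zero]
    simpa using (Polynomial.coeff_X_pow_mul P K 0).symm
  rw [← h0]
  refine (IsReg.poly P).congr ?_
  filter_upwards [eventually_ne_zero (k := k)] with u hu
  have h2 := shiftPoly_eval J a e hK hu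
  rw [hP, Polynomial.eval_mul, Polynomial.eval_pow, Polynomial.eval_X, mul_comm] at h2
  exact mul_right_cancel₀ (pow_ne_zero K hu) h2

variable {G X : Over (St k)} [GrpObj G] {a : AlgGrp.Action G X} (B : GLinSh.LinBun G a)

/-- the limit of weight zero of a point of an invariant locus is in the locus -/
theorem limit_mem_nonvanishing (hB : HMNum.AmpleCover B) {n : ℕ} {f : Γ(B.V.left, ⊤)}
    (hf : B.IsInvSection n f) (l : Red.Gm (St k) ⟶ G) [IsMonHom l] {x : Pt k ⟶ X} (φ : Ln k ⟶ X)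
    (hφ : ∀ u : kˣ, lnPt (u : k) ≫ φ = lift (gpt u ≫ l) x ≫ a.act)
    (hw : HMNum.HasFibreWeight B l (lnPt 0 ≫ φ) 0)
    (hxf : x.left (IsLocalRing.closedPoint k) ∈ GLinSh.nonvanishing B.π f) :
    (lnPt 0 ≫ φ).left (IsLocalRing.closedPoint k) ∈ GLinSh.nonvanishing B.π f := by
  classical
  obtain ⟨U₀, ζ₀, hζ₀, hU₀⟩ := exists_chart_at B x
  obtain ⟨v₀, hv₀, hv₀1⟩ := exists_over B hζ₀ x hU₀
  obtain ⟨cc, hcc1, hcc2⟩ := exists_weight_val B hf.1 hζ₀
  have hA : gv v₀ f ≠ 0 := by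
    rw [hcc1 v₀ (by rw [hv₀]; exact hU₀), hv₀, hv₀1, one_pow, _root_.mul_one]
    exact hcc2 x hU₀ hxf
  obtain ⟨n₀, f₀, hn₀, hf₀, hy₀, -⟩ := hB.2 ((lnPt 0 ≫ φ).left (IsLocalRing.closedPoint k))
  haveI := B.atlas.affine
  haveI : CompactSpace B.V.left := by
    haveI := hB.1
    exact QuasiCompact.compactSpace_of_compactSpace B.π.left
  have hT : Red.IsTorus (Red.Gm (St k)) := GMod80.isTorus_Gm _
  obtain ⟨Λ, hΛ, hexp⟩ := exists_homSet hT l B f₀
  obtain ⟨co, hco⟩ := hexp v₀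
  have hF : ∀ u : kˣ, gv (lift (gpt u ≫ l) v₀ ≫ B.lift.act) f₀ = lsum Λ co (fun χ => expo χ (𝟙 (Red.Gm (St k)))) (u : k) := by
    intro u
    rw [hco (gpt u)]
    show _ = ∑ χ ∈ Λ, co χ * (u : k) ^ expo χ (𝟙 (Red.Gm (St k)))
    refine Finset.sum_congr rfl fun χ hχ => ?_
    have h1 := expo_spec (hΛ χ hχ (𝟙 _)) u
    rw [Category.comp_id] at h1
    rw [h1]
  obtain ⟨hne, hle⟩ := cls_orbit B l φ hφ (w := 0) hw hv₀ hζ₀ hU₀ hv₀1 hn₀ hf₀ hy₀ Λ co (fun χ => expo χ (𝟙 (Red.Gm (St k)))) hF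
  rw [mul_zero] at hne
  have hreg : IsReg (fun u => lsum Λ co (fun χ => expo χ (𝟙 (Red.Gm (St k)))) u) (cls Λ co (fun χ => expo χ (𝟙 (Red.Gm (St k)))) 0) := isReg_lsum fun N hN =>
    hle n₀ f₀ hf₀ 1 _ Λ co (fun χ => expo χ (𝟙 (Red.Gm (St k)))) (fun u => by rw [Mu99.act_one, hF]) N (by simpa using hN)
  obtain ⟨U, ζ, hζ, hU⟩ := exists_chart_at B (lnPt 0 ≫ φ)
  obtain ⟨c, hc1, -⟩ := exists_weight_val B hf.1 hζ
  obtain ⟨c₀, hc01, hc02⟩ := exists_weight_val B hf₀ hζ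
  obtain ⟨hC, hland⟩ := isReg_comp φ c hU
  obtain ⟨hC₀, -⟩ := isReg_comp φ c₀ hU
  have hinv : ∀ g : Pt k ⟶ G, gv (lift g v₀ ≫ B.lift.act) f = gv v₀ f := fun g => by
    rw [gv_comp, show B.lift.act.left.appTop f = (snd G B.V).left.appTop f from hf.2, ← gv_comp, lift_snd]
  have key : ∀ᶠ u in cofinite, vz (lnPt u ≫ φ) c ^ n₀ * lsum Λ co (fun χ => expo χ (𝟙 (Red.Gm (St k)))) u ^ n =
      gv v₀ f ^ n₀ * vz (lnPt u ≫ φ) c₀ ^ n := by
    filter_upwards [hland, eventually_ne_zero (k := k)] with u hu hu0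
    let v := lift (gpt (Units.mk0 u hu0) ≫ l) v₀ ≫ B.lift.act
    have hvπ : v ≫ B.π = lnPt u ≫ φ := by
      rw [act_π, hv₀, ← hφ (Units.mk0 u hu0), Units.val_mk0]
    have h1 := hc1 v (by rw [hvπ]; exact hu)
    have h2 := hc01 v (by rw [hvπ]; exact hu)
    rw [hinv, hvπ] at h1
    rw [hF, hvπ, Units.val_mk0] at h2
    rw [h1, h2, mul_pow, mul_pow, ← pow_mul, ← pow_mul, mul_comm n n₀]
    ring
  have h3 := (((hC.pow n₀).mul (hreg.pow n)).congr key).unique ((IsReg.const _).mul (hC₀.pow n))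
  have hcy : vz (lnPt 0 ≫ φ) c ≠ 0 := by
    intro h0
    refine mul_ne_zero (pow_ne_zero n₀ hA) (pow_ne_zero n (hc02 _ hU hy₀)) ?_
    rw [← h3]
    show vz (lnPt 0 ≫ φ) c ^ n₀ * _ = 0
    rw [h0, zero_pow (by omega), zero_mul]
  obtain ⟨v₁, hv₁, hv₁1⟩ := exists_over B hζ (lnPt 0 ≫ φ) hU
  refine ⟨v₁.left (IsLocalRing.closedPoint k), ?_, ?_⟩
  · refine (mem_basicOpen_iff_val (O := ⊤) v₁ (fun _ _ => trivial) f).2 ?_
    rw [← gv_eq_val, hc1 v₁ (by rw [hv₁]; exact hU), hv₁, hv₁1, one_pow, _root_.mul_one]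
    exact hcy
  · rw [← hv₁]
    rfl

/-- a limit inside an open with closed orbits is in the orbit -/
theorem exists_translate_of_closedOrbitsOn [LocallyOfFiniteType G.hom] [LocallyOfFiniteType X.hom]
    {U : X.left.Opens} (hcl : GLinSh.ClosedOrbitsOn a U) (l : Red.Gm (St k) ⟶ G) [IsMonHom l] {x : Pt k ⟶ X}
    (φ : Ln k ⟶ X) (hφ : ∀ u : kˣ, lnPt (u : k) ≫ φ = lift (gpt u ≫ l) x ≫ a.act)
    (hx : x.left (IsLocalRing.closedPoint k) ∈ U) (hy : (lnPt 0 ≫ φ).left (IsLocalRing.closedPoint k) ∈ U) :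
    ∃ g : Pt k ⟶ G, lift g x ≫ a.act = lnPt 0 ≫ φ := by
  haveI : IsIso (Pt k).hom := inferInstanceAs (IsIso (𝟙 (St k)))
  haveI : Subsingleton (Pt k).left := inferInstanceAs (Subsingleton (PrimeSpectrum k))
  have hC0 := hcl k (Pt k) (Iso.refl _) x (by
    rintro _ ⟨z, rfl⟩
    rw [show z = IsLocalRing.closedPoint k from Subsingleton.elim _ _]
    exact hx)
  obtain ⟨C, hC, hCeq⟩ := isClosed_induced_iff.mp hC0
  let y' : Pt k ⟶ X ⊗ Pt k := lift (lnPt 0 ≫ φ) (𝟙 _)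
  let q := y'.left (IsLocalRing.closedPoint k)
  have hq : q ∈ (fst X (Pt k)).left ⁻¹ᵁ U := by
    show (y' ≫ fst X (Pt k)).left (IsLocalRing.closedPoint k) ∈ U
    rw [lift_fst]
    exact hy
  have hqr : q ∈ Set.range (GIT.psi a x).left.base := by
    by_contra hnot
    have hqC : q ∉ C := fun h => hnot ((Set.ext_iff.mp hCeq ⟨q, hq⟩).mp h)
    let O : (X ⊗ Pt k).left.Opens := ⟨Cᶜ, hC.isOpen_compl⟩ ⊓ (fst X (Pt k)).left ⁻¹ᵁ U
    let ψ' : Ln k ⟶ X ⊗ Pt k := lift φ (toUnit _)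
    have hψ' : ∀ u : k, lnPt u ≫ ψ' = lift (lnPt u ≫ φ) (𝟙 _) := fun u => by
      rw [comp_lift, toUnit_unique (lnPt u ≫ toUnit _) (𝟙 _)]
    have h0 : ⊤ ≤ (lnPt 0 ≫ ψ').left ⁻¹ᵁ O := by
      rw [hψ']
      exact pt_mem _ ⟨hqC, hq⟩
    obtain ⟨u, hu, hu0⟩ := ((isReg_comp ψ' (O := O) 1 h0).2.and (eventually_ne_zero (k := k))).exists
    have hmem : (lnPt u ≫ ψ').left (IsLocalRing.closedPoint k) ∈ O := hu trivial
    refine hmem.1 ((Set.ext_iff.mp hCeq ⟨_, hmem.2⟩).mpr ?_)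
    refine ⟨(lift (gpt (Units.mk0 u hu0) ≫ l) (𝟙 _)).left (IsLocalRing.closedPoint k), ?_⟩
    show _ = (lnPt u ≫ ψ').left (IsLocalRing.closedPoint k)
    rw [← Scheme.Hom.comp_apply, ← Over.comp_left, pt_psi, Category.id_comp, ← hφ, hψ', Units.val_mk0]
  haveI : LocallyOfFiniteType (G ⊗ Pt k).hom :=
    inferInstanceAs (LocallyOfFiniteType (pullback.fst G.hom (Pt k).hom ≫ G.hom))
  haveI : LocallyOfFiniteType (X ⊗ Pt k).hom :=
    inferInstanceAs (LocallyOfFiniteType (pullback.fst X.hom (Pt k).hom ≫ X.hom))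
  haveI : JacobsonSpace (G ⊗ Pt k).left := LocallyOfFiniteType.jacobsonSpace (G ⊗ Pt k).hom
  have hqc : IsClosed ({q} : Set (X ⊗ Pt k).left) :=
    (pointEquivClosedPoint (X ⊗ Pt k).hom ⟨y'.left, Over.w y'⟩).2
  obtain ⟨z, hz, hzc⟩ := nonempty_inter_closedPoints (Z := (GIT.psi a x).left.base ⁻¹' {q})
    (by obtain ⟨z, hz⟩ := hqr; exact ⟨z, hz⟩) (hqc.preimage (GIT.psi a x).left.continuous).isLocallyClosed
  obtain ⟨⟨s, hs⟩, hsz⟩ := (pointEquivClosedPoint (G ⊗ Pt k).hom).surjective ⟨z, hzc⟩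
  let m : Pt k ⟶ G ⊗ Pt k := Over.homMk s hs
  refine ⟨m ≫ fst G (Pt k), ?_⟩
  have hm : m = lift (m ≫ fst G (Pt k)) (𝟙 _) :=
    CartesianMonoidalCategory.hom_ext _ _ (by rw [lift_fst]) (toUnit_unique _ _)
  have himg : (m ≫ GIT.psi a x ≫ fst X (Pt k)).left (IsLocalRing.closedPoint k) =
      (y' ≫ fst X (Pt k)).left (IsLocalRing.closedPoint k) := by
    rw [Over.comp_left, Over.comp_left, Over.comp_left, Scheme.Hom.comp_apply, Scheme.Hom.comp_apply,
      Scheme.Hom.comp_apply]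
    exact congrArg _ ((congrArg (GIT.psi a x).left.base (congrArg Subtype.val hsz)).trans hz)
  have heq : m ≫ GIT.psi a x ≫ fst X (Pt k) = y' ≫ fst X (Pt k) :=
    Over.OverMorphism.ext (congrArg Subtype.val ((pointEquivClosedPoint X.hom).injective
      (a₁ := ⟨_, Over.w (m ≫ GIT.psi a x ≫ fst X (Pt k))⟩) (a₂ := ⟨_, Over.w (y' ≫ fst X (Pt k))⟩)
      (Subtype.ext himg)))
  rw [← Category.assoc, hm, pt_psi, lift_fst, lift_fst, Category.id_comp] at heq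
  exact heq

end Groth.Agent.GIT36.Proj
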