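import Groth.Agent.GIT36.Proj.Functions
import Groth.Agent.GIT36.Proj.LamGm
import Groth.Agent.GIT36.Proj.AmpleAffine
import Groth.Agent.GIT36.Mu.Main
import Groth.Agent.GIT36.AffQuot.Main
import Groth.Agent.GIT36.HM.Criterion
import Groth.Agent.GMod80.NoTorus

/-!
The numerical criterion for semi-stability on a proper scheme.
-/

set_option autoImplicit false
set_option backward.isDefEq.respectTransparency.types false
set_option linter.style.haveILetI false
set_option linter.unusedSectionVars false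

universe u

open CategoryTheory CategoryTheory.Limits MonoidalCategory CartesianMonoidalCategory MonObj GrpObj AlgebraicGeometry
  Opposite TopologicalSpace WithConv
open scoped TensorProduct LaurentPolynomial
open LaurentPolynomial
open Groth.Agent.GIT36.Sections Groth.Agent.GIT36.Mu Groth.Agent.FinSub96

noncomputable section

namespace Groth.Agent.GIT36.Proj

variable {k : Type u} [Field k] {G X : Over (St k)} [GrpObj G] {a : AlgGrp.Action G X} (B : GLinSh.LinBun G a)

section Orbit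

variable [QuasiCompact X.hom] [QuasiSeparated X.hom] [IsAffine G.left]
  {A : Type u} [CommRing A] [HopfAlgebra k A] (ψ : GMod80.sp k A ≅ G) [IsMonHom ψ.hom]

attribute [local instance] quasiCompact_total quasiSeparated_total isAffine_gm

/-- evaluation at a rational point of the total space, on the functions of the hull -/
def evPt (v₀ : Pt k ⟶ B.V) : Γ((hull B.V).left, ⊤) →ₐ[k] k :=
  { (gv v₀).comp (theta B).toRingHom with
    commutes' := fun c => by
      show gv v₀ (theta B (algebraMap k _ c)) = c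
      rw [AlgHom.commutes, algebraMap_eq_cst, gv_cst] }

theorem evPt_apply (v₀ : Pt k ⟶ B.V) (r : Γ((hull B.V).left, ⊤)) : evPt B v₀ r = gv v₀ (theta B r) := rfl

theorem xe_gv {Z : Over (St k)} [IsAffine Z.left] (j' : VecGrp.pt k k ⟶ Pt k) (p : Pt k ⟶ Z)
    (f : Γ(Z.left, ⊤) →ₐ[k] k) (hf : AffQuot.xe f = j' ≫ p) (s : Γ(Z.left, ⊤)) : f s = gv p s := by
  have h := AffQuot.appTop_xe f s
  rw [hf, Over.comp_left, Scheme.Hom.comp_appTop, CommRingCat.comp_apply] at h
  have hj : j'.left = 𝟙 _ := by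
    have h2 := Over.w j'
    change j'.left ≫ 𝟙 _ = Spec.map (CommRingCat.ofHom (algebraMap k k)) at h2
    rw [show CommRingCat.ofHom (algebraMap k k) = 𝟙 _ from rfl, Spec.map_id] at h2
    exact (Category.comp_id _).symm.trans h2
  rw [hj] at h
  have h3 := congrArg (Scheme.ΓSpecIso (CommRingCat.of k)).hom h
  simp only [Iso.inv_hom_id_apply] at h3
  exact h3.symm

/-- the orbit under a one-parameter subgroup, evaluated -/
theorem gv_orbit (lam : A →ₐc[k] k[T;T⁻¹]) (v₀ : Pt k ⟶ B.V) (u : kˣ) (r : Γ((hull B.V).left, ⊤)) :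
    gv (lift (gpt u ≫ lamGm lam ψ) v₀ ≫ B.lift.act) (theta B r) =
      Algebra.TensorProduct.lift (evPt B v₀) (lamB lam u).ofConv (fun _ _ => Commute.all _ _)
        (AffQuot.coact ψ (hullAct B.lift) r) := by
  let W := hull B.V
  let j' : VecGrp.pt k k ⟶ Pt k := Over.homMk (𝟙 _) (by
    show 𝟙 _ ≫ 𝟙 _ = Spec.map (CommRingCat.ofHom (algebraMap k k))
    rw [show CommRingCat.ofHom (algebraMap k k) = 𝟙 _ from rfl, Spec.map_id, Category.comp_id])
  obtain ⟨e₀, he₀⟩ := AffQuot.xe_surjective (j' ≫ v₀ ≫ toHull B.V)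
  have he₀' : e₀ = evPt B v₀ := AlgHom.ext fun s => by
    rw [xe_gv j' (v₀ ≫ toHull B.V) e₀ he₀ s, evPt_apply, gv_comp]
    rfl
  obtain ⟨φ, hφ⟩ := AffQuot.xe_surjective (j' ≫ gpt u)
  have hu : Units.map φ.toMonoidHom (GmPts.unitOfPt (𝟙 (Red.Gm (St k)))) = u := by
    ext1
    show φ (GmPts.unitOfPt (𝟙 (Red.Gm (St k))) : Γ((Red.Gm (St k)).left, ⊤)) = _
    rw [xe_gv j' (gpt u) φ hφ]
    exact gv_gpt_zFn u
  have hg : j' ≫ gpt u ≫ lamGm lam ψ = (GMod80.e ψ k (lamB lam u))⁻¹ := by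
    rw [← Category.assoc, ← hφ, comp_lamGm, hu, ← map_inv]
    congr 1
    exact eq_inv_of_mul_eq_one_left ((lamB_mul lam u⁻¹ u).trans (by
      rw [inv_mul_cancel]
      exact mul_left_cancel (a := lamB lam (1 : kˣ)) (by rw [lamB_mul, _root_.one_mul, _root_.mul_one])))
  have key : AffQuot.xe ((Algebra.TensorProduct.lift (evPt B v₀) (lamB lam u).ofConv
      (fun _ _ => Commute.all _ _)).comp (AffQuot.coact ψ (hullAct B.lift))) =
      j' ≫ (lift (gpt u ≫ lamGm lam ψ) v₀ ≫ B.lift.act) ≫ toHull B.V := by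
    rw [← AffQuot.act'_eq, AffQuot.act', Category.assoc, ← whisker_hullAct B.lift, lift_whiskerLeft_assoc,
      comp_lift_assoc, hg, ← he₀', he₀]
  rw [← AlgHom.comp_apply, xe_gv j' _ _ key r, gv_comp]
  rfl

end Orbit

section Main

variable [IsAlgClosed k]

/-- the numerical function at a semi-stable point is non-negative -/
theorem nonneg_of_semistable [IsProper X.hom] (hB : HMNum.AmpleCover B) (x : Pt k ⟶ X) (p : (Pt k).left)
    (h : B.IsSemistablePt (x.left.base p)) (l : Red.Gm (St k) ⟶ G) [IsMonHom l] (m : ℤ)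
    (hm : HMNum.IsMu B l x m) : 0 ≤ m := by
  classical
  obtain ⟨n, f, hn, hf, hxf, -⟩ := h
  rw [show p = IsLocalRing.closedPoint k from Subsingleton.elim (α := PrimeSpectrum k) _ _] at hxf
  obtain ⟨y, hy, hw⟩ := hm
  obtain ⟨φ, hφ, hlim⟩ := exists_curve a l x
  rw [Mu99.limit_unique l hy hlim] at hw
  obtain ⟨U₀, ζ₀, hζ₀, hU₀⟩ := exists_chart_at B x
  obtain ⟨v₀, hv₀, hv₀1⟩ := exists_over B hζ₀ x hU₀
  obtain ⟨c, hc1, hc2⟩ := exists_weight_val B hf.1 hζ₀
  have hfv : gv v₀ f ≠ 0 := by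
    rw [hc1 v₀ (by rw [hv₀]; exact hU₀), hv₀, hv₀1, one_pow, _root_.mul_one]
    exact hc2 x hU₀ hxf
  have hinv : ∀ g : Pt k ⟶ G, ∀ v : Pt k ⟶ B.V, gv (lift g v ≫ B.lift.act) f = gv v f := fun g v => by
    rw [gv_comp, show B.lift.act.left.appTop f = (snd G B.V).left.appTop f from hf.2, ← gv_comp, lift_snd]
  obtain ⟨d₀, f₀, hd₀, hf₀, hy₀, -⟩ := hB.2 ((lnPt 0 ≫ φ).left (IsLocalRing.closedPoint k))
  haveI := B.atlas.affine
  haveI : CompactSpace B.V.left := by
    haveI := hB.1
    exact QuasiCompact.compactSpace_of_compactSpace B.π.left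
  obtain ⟨e₀, J₀, a₀, hF⟩ : ∃ (e₀ : ℤ → ℤ) (J₀ : Finset ℤ) (a₀ : ℤ → k),
      ∀ u : kˣ, gv (lift (gpt u ≫ l) v₀ ≫ B.lift.act) f₀ = lsum J₀ a₀ e₀ (u : k) := by
    have hT : Red.IsTorus (Red.Gm (St k)) := GMod80.isTorus_Gm _
    obtain ⟨Λ, hΛ, hexp⟩ := exists_homSet hT l B f₀
    obtain ⟨co, hco⟩ := hexp v₀
    refine ⟨id, Λ.image fun χ => expo χ (𝟙 _), fun e => ∑ χ ∈ Λ with expo χ (𝟙 (Red.Gm (St k))) = e, co χ,
      fun u => ?_⟩
    rw [hco (gpt u), lsum, ← Finset.sum_fiberwise_of_maps_to (g := fun χ => expo χ (𝟙 (Red.Gm (St k))))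
      (fun c hc => Finset.mem_image_of_mem _ hc)]
    refine Finset.sum_congr rfl fun e _ => ?_
    rw [Finset.sum_mul]
    refine Finset.sum_congr rfl fun χ hχ => ?_
    obtain ⟨hχΛ, hχe⟩ := Finset.mem_filter.mp hχ
    have h1 := expo_spec (hΛ χ hχΛ (𝟙 _)) u
    rw [Category.comp_id, hχe] at h1
    rw [h1]
    rfl
  obtain ⟨-, hle⟩ := cls_orbit B l φ hφ hw hv₀ hζ₀ hU₀ hv₀1 hd₀ hf₀ hy₀ J₀ a₀ e₀ hF
  by_contra hneg
  rw [not_le] at hneg
  have h0 := hle n f hf.1 1 (PUnit.{u + 1}) {PUnit.unit} (fun _ => gv v₀ f) (fun _ => 0)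
    (fun u => by rw [Mu99.act_one, hinv]; simp [lsum]) 0 (by
      have : (1 : ℤ) ≤ (n : ℤ) := by exact_mod_cast hn
      nlinarith)
  refine hfv ?_
  simpa [cls] using h0

/-- the numerical criterion -/
theorem isSemistablePt_iff [CharZero k] (hG : Red.IsReductive G) [IsProper X.hom] (hB : HMNum.AmpleCover B)
    (x : Pt k ⟶ X) (p : (Pt k).left) :
    B.IsSemistablePt (x.left.base p) ↔
      ∀ (l : Red.Gm (St k) ⟶ G) [IsMonHom l] (m : ℤ), HMNum.IsMu B l x m → 0 ≤ m := by
  classical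
  refine ⟨fun h l _ m hm => nonneg_of_semistable B hB x p h l m hm, fun hμ => ?_⟩
  haveI := hG.1
  haveI : IsAffine G.left := isAffine_of_isAffineHom G.hom
  haveI := hG.2.1
  obtain ⟨A, _, _, ψ, hψ, hAft, hLR⟩ := AffQuot.exists_coord_linRed G hG
  haveI := hψ
  haveI := hAft
  haveI : IsReduced A := GMod80.isReduced ψ
  haveI := B.atlas.affine
  haveI := quasiCompact_total B
  haveI := quasiSeparated_total B
  rw [show p = IsLocalRing.closedPoint k from Subsingleton.elim (α := PrimeSpectrum k) _ _]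
  obtain ⟨I, _, N, F, U, hN, hF, hU, hUa, hcov⟩ := exists_ampleFamily B hB
  obtain ⟨J, _, _, b, c, co, hrep, hbw, hbc, hFb⟩ := exists_repr B ψ F hF
  obtain ⟨U₀, ζ₀, hζ₀, hU₀⟩ := exists_chart_at B x
  obtain ⟨v₀, hv₀, hv₀1⟩ := exists_over B hζ₀ x hU₀
  let v : J → k := fun j => evPt B v₀ (b j)
  have hFv : ∀ i, gv v₀ (F i) = ∑ j, co i j * v j := fun i => by
    rw [hFb i, map_sum]
    refine Finset.sum_congr rfl fun j _ => ?_
    rw [Algebra.smul_def, map_mul, algebraMap_eq_cst, gv_cst]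
    rfl
  have hv : v ≠ 0 := by
    intro h0
    obtain ⟨i, hi⟩ := hcov (x.left.base (IsLocalRing.closedPoint k))
    obtain ⟨cc, hc1, hc2⟩ := exists_weight_val B (hF i) hζ₀
    have h1 : gv v₀ (F i) ≠ 0 := by
      rw [hc1 v₀ (by rw [hv₀]; exact hU₀), hv₀, hv₀1, one_pow, _root_.mul_one]
      refine hc2 x hU₀ ?_
      rw [← hU i]
      exact hi
    exact h1 (by rw [hFv i, h0]; simp)
  let cM := FinGrp34.PolyComod.comod (k := k) hrep
  letI : HopfRep.Comod k A (MvPolynomial J k) := cM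
  haveI := FinGrp34.PolyComod.isCoactAlg (k := k) hrep
  have hlin : GLin.IsLinear k A J := fun j => ⟨fun i => c i j, FinGrp34.PolyComod.polyCoact_X j⟩
  letI := AffQuot.comod ψ (hullAct B.lift)
  haveI := AffQuot.isCoactAlg ψ (hullAct B.lift)
  have hev : (evPt B v₀).comp (MvPolynomial.aeval b) = GLin.vecPt k J v := by
    refine MvPolynomial.algHom_ext fun j => ?_
    simp [v, GLin.vecPt]
  by_cases hss : GLin.IsSemistableVec k A v
  · simp only [GLin.IsSemistableVec, GLin.IsNullform, not_forall] at hss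
    obtain ⟨P, hP, d, hd, hhom, hPv⟩ := hss
    let r := MvPolynomial.aeval b P
    have hr : AffQuot.coact ψ (hullAct B.lift) r = r ⊗ₜ[k] (1 : A) := by
      refine (@FinGrp34.PolyComod.coact_aeval k _ A _ _ J _ _ c Γ((hull B.V).left, ⊤) _ _ _ _ b hbc P).trans ?_
      rw [show FinGrp34.PolyComod.polyCoact (k := k) c P = P ⊗ₜ[k] (1 : A) from
        (GLin.mem_invariants_iff k A (MvPolynomial J k) P).1 hP]
      simp [r]
    let f := theta B r
    have hf : GLinSh.HasWeight B.atlas.chart (d * N) f := by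
      show GLinSh.HasWeight B.atlas.chart (d * N) (theta B (MvPolynomial.aeval b P))
      rw [← AlgHom.comp_apply, MvPolynomial.comp_aeval]
      exact wt_aeval B _ hbw hhom
    have hfi : B.IsInvSection (d * N) f := ⟨hf, inv_theta B ((AffQuot.inv_iff ψ (hullAct B.lift) r).2 hr)⟩
    have hdN : 1 ≤ d * N := Nat.one_le_iff_ne_zero.2 (Nat.mul_ne_zero (by omega) (by omega))
    have hne : gv v₀ f ≠ 0 := by
      show evPt B v₀ r ≠ 0
      rw [show evPt B v₀ r = GLin.vecPt k J v P from DFunLike.congr_fun hev P]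
      exact hPv
    have hxf : x.left.base (IsLocalRing.closedPoint k) ∈ GLinSh.nonvanishing B.π f := by
      refine ⟨v₀.left (IsLocalRing.closedPoint k), ?_, ?_⟩
      · refine (mem_basicOpen_iff_val (O := ⊤) v₀ (fun _ _ => trivial) f).2 ?_
        rw [← gv_eq_val]
        exact hne
      · rw [← hv₀]
        rfl
    let Uf : X.left.Opens := ⟨GLinSh.nonvanishing B.π f, isOpen_nonvanishing hfi⟩
    exact ⟨d * N, f, hdN, hfi, hxf, Uf, rfl,
      isAffineOpen_nv (atlasB B) F hF hN U hU hUa hcov hf hdN (Uf := Uf) rfl⟩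
  · exfalso
    rw [HM.isSemistableVec_iff hLR hlin v hv] at hss
    simp only [not_forall, not_le] at hss
    obtain ⟨lam, m, ⟨h, hh, -⟩, hm⟩ := hss
    let l := lamGm lam ψ
    obtain ⟨φ, hφ, hlim⟩ := exists_curve a l x
    obtain ⟨w, hw⟩ := exists_fibreWeight B l (Mu99.isFixedBy_of_isLimitPt l hlim)
    have hw0 : 0 ≤ -w := hμ l (-w) ⟨_, hlim, by rwa [neg_neg]⟩
    obtain ⟨i, hi⟩ := hcov ((lnPt 0 ≫ φ).left (IsLocalRing.closedPoint k))
    have hy₀ : (lnPt 0 ≫ φ).left (IsLocalRing.closedPoint k) ∈ GLinSh.nonvanishing B.π (F i) := by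
      rw [← hU i]
      exact hi
    let P : MvPolynomial J k := ∑ j, MvPolynomial.C (co i j) * MvPolynomial.X j
    have hP : theta B (MvPolynomial.aeval b P) = F i := by
      rw [hFb i, ← AlgHom.comp_apply, MvPolynomial.comp_aeval]
      simp [P, Algebra.smul_def]
    let Q : Polynomial k := h P
    have horb : ∀ u : kˣ, gv (lift (gpt u ≫ l) v₀ ≫ B.lift.act) (F i) =
        lsum Q.support (fun e => Q.coeff e) (fun e => (e : ℤ) - m) (u : k) := by
      intro u
      have hT : Polynomial.toLaurent Q = T m * GLin.lamOrbit k A lam (GLin.vecPt k J v) P := by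
        rw [← Polynomial.toLaurentAlg_apply, ← AlgHom.comp_apply, hh]
        simp only [P, map_sum, map_mul, Finset.mul_sum]
        refine Finset.sum_congr rfl fun j _ => ?_
        rw [GLin.shiftedOrbit, MvPolynomial.aeval_C, MvPolynomial.aeval_X, mul_left_comm,
          MvPolynomial.algHom_C]
      rw [← hP, gv_orbit B ψ lam v₀ u]
      rw [show AffQuot.coact ψ (hullAct B.lift) (MvPolynomial.aeval b P) = _ from
        @FinGrp34.PolyComod.coact_aeval k _ A _ _ J _ _ c Γ((hull B.V).left, ⊤) _ _ _ _ b hbc P]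
      have hO : GLin.lamOrbit k A lam (GLin.vecPt k J v) P = T (-m) * Polynomial.toLaurent Q := by
        rw [hT, ← _root_.mul_assoc, ← T_add, neg_add_cancel, T_zero, _root_.one_mul]
      have h2 := congrArg (HM.evalT (k := k) u) hO
      rw [map_mul, HM.evalT_T] at h2
      refine Eq.trans ?_ (h2.trans ?_)
      · show _ = HM.evalT u (lam ((Algebra.TensorProduct.lid k A) (Algebra.TensorProduct.map (GLin.vecPt k J v)
          (AlgHom.id k A) (FinGrp34.PolyComod.polyCoact (k := k) c P))))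
        rw [← hev]
        generalize FinGrp34.PolyComod.polyCoact (k := k) c P = z
        induction z with
        | zero => simp
        | add p q hp hq => simp only [map_add, hp, hq]
        | tmul p q =>
          simp [lamB, Algebra.smul_def, AlgHomClass.commutes]
          left; rw [LaurentPolynomial.C_eq_algebraMap, AlgHom.commutes]; rfl
      · have hev' : ∀ R : Polynomial k, HM.evalT (k := k) u (Polynomial.toLaurent R) = R.eval (u : k) := by
          intro R
          induction R using Polynomial.induction_on' with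
          | add p q hp hq => simp [hp, hq]
          | monomial e a => rw [Polynomial.toLaurent_C_mul_T, map_mul, HM.evalT_T, LaurentPolynomial.C_eq_algebraMap,
              AlgHom.commutes, Polynomial.eval_monomial, zpow_natCast, Units.val_pow_eq_pow_val]; rfl
        rw [hev', Polynomial.eval_eq_sum, Polynomial.sum, lsum, Finset.mul_sum]
        refine Finset.sum_congr rfl fun e _ => ?_
        rw [sub_eq_add_neg, zpow_add₀ u.ne_zero, zpow_natCast, Units.val_zpow_eq_zpow_val]
        ring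
    obtain ⟨hne, -⟩ := cls_orbit B l φ hφ hw hv₀ hζ₀ hU₀ hv₀1 hN (hF i) hy₀ Q.support (fun e => Q.coeff e)
      (fun e => (e : ℤ) - m) horb
    obtain ⟨e, he, -⟩ := Finset.exists_ne_zero_of_sum_ne_zero hne
    have he' := (Finset.mem_filter.mp he).2
    have h1 : (1 : ℤ) ≤ (N : ℤ) := by exact_mod_cast hN
    have h2 : (0 : ℤ) ≤ (e : ℤ) := by positivity
    nlinarith

end Main

end Groth.Agent.GIT36.Proj
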