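import Groth.Agent.GIT36.Proj.Pts
import Groth.Agent.GIT36.Proj.Semistable

/-!
One-parameter subgroups on rational points: triviality, the bridge to bialgebra maps, and the action on vectors.
-/

set_option autoImplicit false
set_option backward.isDefEq.respectTransparency.types false
set_option linter.style.haveILetI false
set_option linter.unusedSectionVars false

universe u

open CategoryTheory CategoryTheory.Limits MonoidalCategory CartesianMonoidalCategory MonObj GrpObj AlgebraicGeometry
  Opposite TopologicalSpace WithConv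
open scoped TensorProduct LaurentPolynomial
open Groth.Agent.GIT36.Mu Groth.Agent.FinSub96

noncomputable section

namespace Groth.Agent.GIT36.Proj

variable {k : Type u} [Field k] [IsAlgClosed k]

/-- functions on the multiplicative group are determined by their values -/
theorem eq_zero_of_gv_gpt {r : Γ((Red.Gm (St k)).left, ⊤)} (h : ∀ u : kˣ, gv (gpt u) r = 0) : r = 0 := by
  obtain ⟨s, hs⟩ := (ConcreteCategory.bijective_of_isIso
    ((punct k).ι.appLE (punct k) ⊤ (punct k).ι_preimage_self.ge)).2 ((punctToGm k).left.appTop r)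
  haveI : IsAffine (Ln k).left := inferInstanceAs (IsAffine (Spec (CommRingCat.of (Polynomial k))))
  letI : Algebra Γ((Ln k).left, ⊤) Γ((Ln k).left, punct k) :=
    ((Ln k).left.presheaf.map (homOfLE (le_top : punct k ≤ ⊤)).op).hom.toAlgebra
  have hloc : IsLocalization.Away (lnFn (Polynomial.X : Polynomial k)) Γ((Ln k).left, punct k) :=
    (isAffineOpen_top _).isLocalization_basicOpen _
  obtain ⟨n, p, hp⟩ := IsLocalization.Away.surj (lnFn (Polynomial.X : Polynomial k)) s
  obtain ⟨P, rfl⟩ : ∃ P : Polynomial k, lnFn P = p :=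
    ⟨(Scheme.ΓSpecIso (CommRingCat.of (Polynomial k))).hom p, Iso.hom_inv_id_apply _ _⟩
  have hG : ⊤ ≤ (HMNum.incl (St k) ≫ fromA).left ⁻¹ᵁ punct k := incl_mem_punct
  have hr : ev (HMNum.incl (St k) ≫ fromA) hG s = r := by
    have h2 : (gmToPunct k).left.appTop ((punctToGm k).left.appTop r) = r := by
      change ((punctToGm k).left.appTop ≫ (gmToPunct k).left.appTop) r = r
      rw [← Scheme.Hom.comp_appTop, ← Over.comp_left, gmToPunct_punctToGm]
      simp
    have h3 := ev_comp (gmToPunct k) (punctι k) (O := punct k) (punct k).ι_preimage_self.ge s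
    rw [ev_congr gmToPunct_ι _ hG] at h3
    rw [← h3]
    change (gmToPunct k).left.appTop ((punct k).ι.appLE (punct k) ⊤ (punct k).ι_preimage_self.ge s) = r
    rw [hs, h2]
  have hX : ∀ Q : Polynomial k, ev (HMNum.incl (St k) ≫ fromA) hG (algebraMap _ _ (lnFn Q)) =
      (HMNum.incl (St k) ≫ fromA).left.appTop (lnFn Q) := fun Q => by
    rw [← ev_top]
    exact ev_res le_top _ hG _
  have key := congrArg (ev (HMNum.incl (St k) ≫ fromA) hG) hp
  rw [map_mul, map_pow, hr, hX, hX] at key
  have hval : ∀ (u : kˣ) (Q : Polynomial k),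
      gv (gpt u) ((HMNum.incl (St k) ≫ fromA).left.appTop (lnFn Q)) = Q.eval (u : k) := fun u Q => by
    rw [← gv_comp, gpt_incl, gv_eq_val, val_lnPt]
  have hP : P * Polynomial.X = 0 := Polynomial.funext fun c => by
    rw [Polynomial.eval_zero, Polynomial.eval_mul, Polynomial.eval_X]
    by_cases hc : c = 0
    · rw [hc, mul_zero]
    refine mul_eq_zero_of_left ?_ _
    rw [show c = ((Units.mk0 c hc : kˣ) : k) from rfl, ← hval, ← key, map_mul, h, zero_mul]
  rw [(mul_eq_zero.1 hP).resolve_right Polynomial.X_ne_zero, map_zero, map_zero] at key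
  have hu : IsUnit ((HMNum.incl (St k) ≫ fromA).left.appTop (lnFn (Polynomial.X : Polynomial k))) := by
    rw [comp_fromA_fn]
    have := coord_incl (S := St k) (𝟙 (Red.Gm (St k)))
    rw [Category.id_comp] at this
    rw [this]
    exact (GmPts.unitOfPt (𝟙 (Red.Gm (St k)))).isUnit
  exact (hu.pow n).mul_left_eq_zero.mp key

variable {G : Over (St k)} [GrpObj G] [IsAffine G.left]

/-- a one-parameter subgroup with finite image is trivial -/
theorem eq_one_of_finite_range (l : Red.Gm (St k) ⟶ G) [IsMonHom l]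
    (h : (Set.range fun u : kˣ => gpt u ≫ l).Finite) : l = 1 := by
  let φ : kˣ →* (Pt k ⟶ G) :=
    { toFun := fun u => gpt u ≫ l
      map_one' := by rw [gpt_one, MonObj.one_comp]
      map_mul' := fun u v => by rw [gpt_mul, MonObj.mul_comp] }
  haveI : Finite φ.range := h.to_subtype
  have htriv : ∀ u : kˣ, gpt u ≫ l = 1 := by
    intro u
    obtain ⟨y, hy⟩ := IsAlgClosed.exists_pow_nat_eq (u : k) (Nat.card_pos (α := φ.range))
    have hy0 : y ≠ 0 := by
      rintro rfl
      rw [zero_pow Nat.card_pos.ne'] at hy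
      exact u.ne_zero hy.symm
    show φ u = 1
    rw [show u = Units.mk0 y hy0 ^ Nat.card φ.range from
      Units.ext (by rw [Units.val_pow_eq_pow_val]; exact hy.symm), map_pow]
    exact congrArg Subtype.val (pow_card_eq_one' (x := (⟨φ (Units.mk0 y hy0), _, rfl⟩ : φ.range)))
  refine Over.OverMorphism.ext (ext_of_isAffine ?_)
  ext s
  rw [← sub_eq_zero]
  refine eq_zero_of_gv_gpt fun u => ?_
  rw [map_sub, sub_eq_zero, ← gv_comp, ← gv_comp, htriv u, MonObj.comp_one]

variable {A : Type u} [CommRing A] [HopfAlgebra k A] (ψ : GMod80.sp k A ≅ G) [IsMonHom ψ.hom]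

attribute [local instance] isAffine_gm

/-- the rational points of the one-parameter subgroup of a bialgebra map -/
theorem gpt_lamGm (lam : A →ₐc[k] k[T;T⁻¹]) (u : kˣ) : gpt u ≫ lamGm lam ψ = (gOf ψ (lamB lam u))⁻¹ := by
  obtain ⟨φ, hφ⟩ := AffQuot.xe_surjective (ptIso.inv ≫ gpt u)
  have hu : Units.map φ.toMonoidHom (GmPts.unitOfPt (𝟙 (Red.Gm (St k)))) = u := by
    ext1
    show φ (GmPts.unitOfPt (𝟙 (Red.Gm (St k))) : Γ((Red.Gm (St k)).left, ⊤)) = _
    rw [xe_gv ptIso.inv (gpt u) φ hφ]
    exact gv_gpt_zFn u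
  have h1 : lamB lam u⁻¹ = (lamB lam u)⁻¹ := by
    refine eq_inv_of_mul_eq_one_left ((lamB_mul lam u⁻¹ u).trans ?_)
    rw [inv_mul_cancel]
    exact mul_left_cancel (a := lamB lam (1 : kˣ)) (by rw [lamB_mul, _root_.one_mul, _root_.mul_one])
  rw [← map_inv, ← h1]
  show gpt u ≫ lamGm lam ψ = ptIso.hom ≫ GMod80.e ψ k (lamB lam u⁻¹)
  conv_rhs => rw [← hu, ← comp_lamGm, hφ, ← Category.assoc, Iso.hom_inv_id_assoc]

theorem isTrivial_of_lamGm_eq_one [CharZero k] [Algebra.FiniteType k A] (lam : A →ₐc[k] k[T;T⁻¹]) (h : lamGm lam ψ = 1) :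
    SGA3t2b.IsTrivialBialgHom lam := by
  refine HM.isTrivial_of_finite lam ((Set.finite_singleton (1 : WithConv (A →ₐ[k] k)).ofConv).subset ?_)
  rintro _ ⟨s, rfl⟩
  have h1 := gpt_lamGm ψ lam s
  rw [h, MonObj.comp_one] at h1
  have h2 : lamB lam s = 1 := (gOf_bijective ψ).1 (by rw [map_one]; exact inv_eq_one.mp h1.symm)
  exact congrArg WithConv.ofConv h2

variable {X : Over (St k)} {a : AlgGrp.Action G X} (B : GLinSh.LinBun G a)
  [QuasiCompact X.hom] [QuasiSeparated X.hom]

attribute [local instance] quasiCompact_total quasiSeparated_total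

theorem zpt_evPt (v : Pt k ⟶ B.V) : zpt (evPt B v) = v ≫ toHull B.V := by
  obtain ⟨e, he⟩ := zpt_surjective (v ≫ toHull B.V)
  rw [← he]
  refine congrArg zpt (AlgHom.ext fun s => ?_)
  rw [← gv_zpt e, he, evPt_apply, gv_comp]
  rfl

/-- translation of a vector of the total space, evaluated on the hull -/
theorem evPt_act (g : WithConv (A →ₐ[k] k)) (v : Pt k ⟶ B.V) :
    letI := AffQuot.comod ψ (hullAct B.lift)
    haveI := AffQuot.isCoactAlg ψ (hullAct B.lift)
    evPt B (lift (gOf ψ g)⁻¹ v ≫ B.lift.act) = GLin.actPt k g.ofConv (evPt B v) := by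
  letI := AffQuot.comod ψ (hullAct B.lift)
  haveI := AffQuot.isCoactAlg ψ (hullAct B.lift)
  apply zpt_injective
  rw [zpt_evPt, ← act_zpt ψ (hullAct B.lift) g, zpt_evPt, Category.assoc, ← whisker_hullAct B.lift,
    lift_whiskerLeft_assoc]

end Groth.Agent.GIT36.Proj
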