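import Groth.Agent.GIT36.Proj.Limit
import Groth.Agent.GIT36.Proj.OnePS
import Groth.Agent.GIT36.Proj.OrbitSurj

/-!
The numerical criterion for proper stability on a proper scheme.
-/

set_option autoImplicit false
set_option backward.isDefEq.respectTransparency.types false
set_option linter.style.haveILetI false
set_option linter.unusedSectionVars false

universe u

open CategoryTheory CategoryTheory.Limits MonoidalCategory CartesianMonoidalCategory MonObj GrpObj AlgebraicGeometry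
  Opposite TopologicalSpace WithConv
open scoped TensorProduct LaurentPolynomial
open LaurentPolynomial
open Groth.Agent.GIT36.Sections Groth.Agent.GIT36.Mu Groth.Agent.FinSub96

noncomputable section

namespace Groth.Agent.GIT36.Proj

variable {k : Type u} [Field k] [IsAlgClosed k] {G X : Over (St k)} [GrpObj G] {a : AlgGrp.Action G X}
  (B : GLinSh.LinBun G a)

section Vec

attribute [local instance] quasiCompact_total quasiSeparated_total

variable [QuasiCompact X.hom] [QuasiSeparated X.hom] [IsAffine G.left]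
  {A : Type u} [CommRing A] [HopfAlgebra k A] [Algebra.FiniteType k A] [IsReduced A]
  (ψ : GMod80.sp k A ≅ G) [IsMonHom ψ.hom]
  {J : Type u} [Fintype J] [DecidableEq J] {b : J → Γ((hull B.V).left, ⊤)} {c : J → J → A}
  (hrep : Comod33.Mat.IsRep (k := k) c)
  (hbc : ∀ j, AffQuot.coact ψ (hullAct B.lift) (b j) = ∑ i, b i ⊗ₜ[k] c i j)

/-- the vector of a point of the total space -/
abbrev vecW (b : J → Γ((hull B.V).left, ⊤)) (v : Pt k ⟶ B.V) : J → k := fun j => evPt B v (b j)

include hbc in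
theorem vecPt_act (g : WithConv (A →ₐ[k] k)) (v : Pt k ⟶ B.V) :
    letI := FinGrp34.PolyComod.comod (k := k) hrep
    haveI := FinGrp34.PolyComod.isCoactAlg (k := k) hrep
    GLin.vecPt k J (vecW B b (lift (gOf ψ g)⁻¹ v ≫ B.lift.act)) =
      GLin.actPt k g.ofConv (GLin.vecPt k J (vecW B b v)) := by
  letI := FinGrp34.PolyComod.comod (k := k) hrep
  haveI := FinGrp34.PolyComod.isCoactAlg (k := k) hrep
  refine MvPolynomial.algHom_ext fun j => ?_
  rw [GLin.vecPt, MvPolynomial.aeval_X, vecW, evPt_act]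
  show g.ofConv ((Algebra.TensorProduct.lid k A) (Algebra.TensorProduct.map (evPt B v) (AlgHom.id k A)
      (AffQuot.coact ψ (hullAct B.lift) (b j)))) =
    g.ofConv ((Algebra.TensorProduct.lid k A) (Algebra.TensorProduct.map (GLin.vecPt k J (vecW B b v))
      (AlgHom.id k A) (FinGrp34.PolyComod.polyCoact (k := k) c (MvPolynomial.X j))))
  rw [hbc, FinGrp34.PolyComod.polyCoact_X]
  simp [map_sum, GLin.vecPt]

include hbc in
/-- finitely many rational points fix a point of an invariant locus of finite stabilisers -/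
theorem finite_fixers {N M : ℕ} (hbw : ∀ j, GLinSh.HasWeight B.atlas.chart N (theta B (b j)))
    {f : Γ(B.V.left, ⊤)} (hf : B.IsInvSection M f) (hM : 1 ≤ M) (z : Pt k ⟶ X)
    (hz : z.left (IsLocalRing.closedPoint k) ∈ GLinSh.nonvanishing B.π f)
    (hfin : letI := FinGrp34.PolyComod.comod (k := k) hrep
      haveI := FinGrp34.PolyComod.isCoactAlg (k := k) hrep
      ∀ v : Pt k ⟶ B.V, gv v f ≠ 0 → GLin.HasFiniteStab k A (GLin.vecPt k J (vecW B b v))) :
    {g : Pt k ⟶ G | lift g z ≫ a.act = z}.Finite := by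
  classical
  letI := FinGrp34.PolyComod.comod (k := k) hrep
  haveI := FinGrp34.PolyComod.isCoactAlg (k := k) hrep
  obtain ⟨U, ζ, hζ, hU⟩ := exists_chart_at B z
  obtain ⟨v, hv, hv1⟩ := exists_over B hζ z hU
  obtain ⟨cf, hcf1, hcf2⟩ := exists_weight_val B hf.1 hζ
  choose cb hcb1 _hcb2 using fun j => exists_weight_val B (hbw j) hζ
  have hA : gv v f ≠ 0 := by
    rw [hcf1 v (by rw [hv]; exact hU), hv, hv1, one_pow, _root_.mul_one]
    exact hcf2 z hU hz
  let S := {g : Pt k ⟶ G | lift g z ≫ a.act = z}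
  let Φ : (Pt k ⟶ G) → J → k := fun g => vecW B b (lift g v ≫ B.lift.act)
  have himg : (Φ '' S).Finite := by
    refine ((Polynomial.nthRoots M (1 : k)).toFinset.finite_toSet.image
      fun cc => fun j => cc ^ N * vecW B b v j).subset ?_
    rintro _ ⟨g, hg, rfl⟩
    have hgz : (lift g v ≫ B.lift.act) ≫ B.π = z := by
      rw [act_π, hv]
      exact hg
    refine ⟨vz (lift g v ≫ B.lift.act) ζ, ?_, ?_⟩
    · rw [Finset.mem_coe, Multiset.mem_toFinset, Polynomial.mem_nthRoots (by omega)]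
      have h1 := hcf1 (lift g v ≫ B.lift.act) (by rw [hgz]; exact hU)
      rw [gv_comp, show B.lift.act.left.appTop f = (snd G B.V).left.appTop f from hf.2, ← gv_comp, lift_snd,
        hgz, hcf1 v (by rw [hv]; exact hU), hv, hv1, one_pow, _root_.mul_one] at h1
      exact (mul_eq_left₀ (hcf2 z hU hz)).mp h1.symm
    · funext j
      show _ = gv (lift g v ≫ B.lift.act) (theta B (b j))
      rw [hcb1 j (lift g v ≫ B.lift.act) (by rw [hgz]; exact hU), hgz]
      show _ * gv v (theta B (b j)) = _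
      rw [
        hcb1 j v (by rw [hv]; exact hU), hv, hv1, one_pow, _root_.mul_one, mul_comm]
  refine (himg.biUnion (t := fun u => {g' | Φ g' = u}) fun u hu => ?_).subset
    fun g (hg : g ∈ S) => Set.mem_biUnion (Set.mem_image_of_mem Φ hg) rfl
  set W := GLin.vecPt k J (vecW B b v)
  have hst : {h : A →ₐ[k] k | ∀ F, W (HopfRep.Comod.act k A (MvPolynomial J k) h F) = W F}.Finite :=
    Hopf35.Stable.hasFiniteStab_iff.1 (hfin v hA)
  have hfib : {h : WithConv (A →ₐ[k] k) | GLin.actPt k h.ofConv W = GLin.vecPt k J u}.Finite := by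
    rcases Set.eq_empty_or_nonempty {h : WithConv (A →ₐ[k] k) | GLin.actPt k h.ofConv W = GLin.vecPt k J u} with
      h0 | ⟨h₀, hh₀⟩
    · rw [h0]; exact Set.finite_empty
    refine ((hst.image toConv).image (· * h₀)).subset fun h hh => ⟨h * h₀⁻¹, ?_, inv_mul_cancel_right h h₀⟩
    refine ⟨(h * h₀⁻¹).ofConv, fun F => ?_, toConv_ofConv _⟩
    rw [← Hopf35.Stable.actPt_apply, ← Hopf35.Stable.actPt_actPt, show GLin.actPt k h.ofConv W = _ from hh,
      ← show GLin.actPt k h₀.ofConv W = _ from hh₀, Hopf35.Stable.actPt_actPt, mul_inv_cancel,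
      Hopf35.Stable.actPt_one]
  refine (hfib.image fun h => (gOf ψ h)⁻¹).subset fun g hg => ?_
  obtain ⟨h, hh⟩ := (gOf_bijective ψ).2 g⁻¹
  refine ⟨h, ?_, by simp [hh]⟩
  have hga : Φ g = u := hg
  show GLin.actPt k h.ofConv W = _
  rw [← vecPt_act B ψ hrep hbc h v, hh, _root_.inv_inv]
  exact congrArg (GLin.vecPt k J) hga

include hbc in
/-- a non-positive value of the affine numerical function gives one of the geometric one -/
theorem exists_isMu_le [IsProper X.hom] {I : Type u} {N : ℕ} (hN : 1 ≤ N) (F : I → Γ(B.V.left, ⊤))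
    (hF : ∀ i, GLinSh.HasWeight B.atlas.chart N (F i)) (hcov : ∀ y, ∃ i, y ∈ GLinSh.nonvanishing B.π (F i))
    (co : I → J → k) (hFb : ∀ i, F i = ∑ j, co i j • theta B (b j))
    {x : Pt k ⟶ X} {U₀ : X.left.Opens} {ζ₀ : Γ(B.V.left, B.π.left ⁻¹ᵁ U₀)} (hζ₀ : ζ₀ ∈ B.atlas.chart U₀)
    (hU₀ : ⊤ ≤ x.left ⁻¹ᵁ U₀) {v₀ : Pt k ⟶ B.V} (hv₀ : v₀ ≫ B.π = x) (hv₀1 : vz v₀ ζ₀ = 1)
    (lam : A →ₐc[k] k[T;T⁻¹]) (m : ℤ) (hm : m ≤ 0)
    (hmu : letI := FinGrp34.PolyComod.comod (k := k) hrep
      haveI := FinGrp34.PolyComod.isCoactAlg (k := k) hrep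
      GLin.IsMu k A lam (vecW B b v₀) m) :
    ∃ m' : ℤ, m' ≤ 0 ∧ HMNum.IsMu B (lamGm lam ψ) x m' := by
  classical
  letI := FinGrp34.PolyComod.comod (k := k) hrep
  haveI := FinGrp34.PolyComod.isCoactAlg (k := k) hrep
  letI := AffQuot.comod ψ (hullAct B.lift)
  haveI := AffQuot.isCoactAlg ψ (hullAct B.lift)
  obtain ⟨h, hh, -⟩ := hmu
  set v := vecW B b v₀
  let l := lamGm lam ψ
  obtain ⟨φ, hφ, hlim⟩ := exists_curve a l x
  obtain ⟨w, hw⟩ := exists_fibreWeight B l (Mu99.isFixedBy_of_isLimitPt l hlim)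
  refine ⟨-w, ?_, _, hlim, by rwa [neg_neg]⟩
  obtain ⟨i, hy₀⟩ := hcov ((lnPt 0 ≫ φ).left (IsLocalRing.closedPoint k))
  let P : MvPolynomial J k := ∑ j, MvPolynomial.C (co i j) * MvPolynomial.X j
  have hP : theta B (MvPolynomial.aeval b P) = F i := by
    rw [hFb i, ← AlgHom.comp_apply, MvPolynomial.comp_aeval]
    simp [P, Algebra.smul_def]
  let Q : Polynomial k := h P
  have hev : (evPt B v₀).comp (MvPolynomial.aeval b) = GLin.vecPt k J v := by
    refine MvPolynomial.algHom_ext fun j => ?_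
    simp [v, GLin.vecPt]
  have horb : ∀ u : kˣ, gv (lift (gpt u ≫ l) v₀ ≫ B.lift.act) (F i) =
      lsum Q.support (fun e => Q.coeff e) (fun e => (e : ℤ) - m) (u : k) := by
    intro u
    have hT : Polynomial.toLaurent Q = T m * GLin.lamOrbit k A lam (GLin.vecPt k J v) P := by
      rw [← Polynomial.toLaurentAlg_apply, ← AlgHom.comp_apply, hh]
      simp only [P, map_sum, map_mul, Finset.mul_sum]
      refine Finset.sum_congr rfl fun j _ => ?_
      rw [GLin.shiftedOrbit, MvPolynomial.aeval_C, MvPolynomial.aeval_X, mul_left_comm,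
        MvPolynomial.algHom_C]
    rw [← hP, gv_orbit B ψ lam v₀ u]
    rw [show AffQuot.coact ψ (hullAct B.lift) (MvPolynomial.aeval b P) = _ from
      @FinGrp34.PolyComod.coact_aeval k _ A _ _ J _ _ c Γ((hull B.V).left, ⊤) _ _ _ _ b hbc P]
    have hO : GLin.lamOrbit k A lam (GLin.vecPt k J v) P = T (-m) * Polynomial.toLaurent Q := by
      rw [hT, ← _root_.mul_assoc, ← T_add, neg_add_cancel, T_zero, _root_.one_mul]
    have h2 := congrArg (HM.evalT (k := k) u) hO
    rw [map_mul, HM.evalT_T] at h2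
    refine Eq.trans ?_ (h2.trans ?_)
    · show _ = HM.evalT u (lam ((Algebra.TensorProduct.lid k A) (Algebra.TensorProduct.map (GLin.vecPt k J v)
        (AlgHom.id k A) (FinGrp34.PolyComod.polyCoact (k := k) c P))))
      rw [← hev]
      generalize FinGrp34.PolyComod.polyCoact (k := k) c P = z
      induction z with
      | zero => simp
      | add p q hp hq => simp only [map_add, hp, hq]
      | tmul p q =>
        simp [lamB, Algebra.smul_def, AlgHomClass.commutes]
        left; rw [LaurentPolynomial.C_eq_algebraMap, AlgHom.commutes]; rfl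
    · have hev' : ∀ R : Polynomial k, HM.evalT (k := k) u (Polynomial.toLaurent R) = R.eval (u : k) := by
        intro R
        induction R using Polynomial.induction_on' with
        | add p q hp hq => simp [hp, hq]
        | monomial e a => rw [Polynomial.toLaurent_C_mul_T, map_mul, HM.evalT_T, LaurentPolynomial.C_eq_algebraMap,
            AlgHom.commutes, Polynomial.eval_monomial, zpow_natCast, Units.val_pow_eq_pow_val]; rfl
      rw [hev', Polynomial.eval_eq_sum, Polynomial.sum, lsum, Finset.mul_sum]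
      refine Finset.sum_congr rfl fun e _ => ?_
      rw [sub_eq_add_neg, zpow_add₀ u.ne_zero, zpow_natCast, Units.val_zpow_eq_zpow_val]
      ring
  obtain ⟨hne, -⟩ := cls_orbit B l φ hφ hw hv₀ hζ₀ hU₀ hv₀1 hN (hF i) hy₀ Q.support (fun e => Q.coeff e)
    (fun e => (e : ℤ) - m) horb
  obtain ⟨e, he, -⟩ := Finset.exists_ne_zero_of_sum_ne_zero hne
  have he' := (Finset.mem_filter.mp he).2
  have h1 : (1 : ℤ) ≤ (N : ℤ) := by exact_mod_cast hN
  have h2 : (0 : ℤ) ≤ (e : ℤ) := by positivity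
  nlinarith

end Vec

theorem nonneg_of_trivial {A : Type u} [CommRing A] [HopfAlgebra k A] {J : Type u} [Fintype J] [DecidableEq J]
    [HopfRep.Comod k A (MvPolynomial J k)] [GLin.IsCoactAlg k A (MvPolynomial J k)] (lam : A →ₐc[k] k[T;T⁻¹])
    (htriv : SGA3t2b.IsTrivialBialgHom lam) (v : J → k) (m : ℤ) (hm : GLin.IsMu k A lam v m) : 0 ≤ m := by
  obtain ⟨-, i, hi⟩ := (Hopf35.MuLimit.isMu_iff lam v m).1 hm
  by_contra hneg
  apply hi
  show (lam (GLin.orbitHom k A (GLin.vecPt k J v) (MvPolynomial.X i))).coeff (-m) = 0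
  rw [htriv, ← LaurentPolynomial.C_eq_algebraMap, ← LaurentPolynomial.single_eq_C, AddMonoidAlgebra.coeff_single,
    Finsupp.single_apply, if_neg (by omega)]

/-- the numerical criterion for proper stability -/
theorem isProperlyStablePt_iff [CharZero k] (hG : Red.IsReductive G) [IsProper X.hom] (hB : HMNum.AmpleCover B)
    (x : Pt k ⟶ X) (p : (Pt k).left) :
    B.IsProperlyStablePt (x.left.base p) ↔
      ∀ (l : Red.Gm (St k) ⟶ G) [IsMonHom l], l ≠ 1 → ∀ m : ℤ, HMNum.IsMu B l x m → 0 < m := by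
  classical
  rw [show p = IsLocalRing.closedPoint k from Subsingleton.elim (α := PrimeSpectrum k) _ _]
  haveI := hG.1
  haveI : IsAffine G.left := isAffine_of_isAffineHom G.hom
  haveI := hG.2.1
  obtain ⟨A, _, _, ψ, hψ, hAft, hLR⟩ := AffQuot.exists_coord_linRed G hG
  haveI := hψ
  haveI := hAft
  haveI : IsReduced A := GMod80.isReduced ψ
  haveI : LocallyOfFiniteType G.hom := inferInstance
  haveI : Subsingleton (Pt k).left := inferInstanceAs (Subsingleton (PrimeSpectrum k))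
  have hrange : ∀ z : Pt k ⟶ X, Set.range z.left.base = {z.left.base (IsLocalRing.closedPoint k)} := fun z =>
    Set.eq_singleton_iff_unique_mem.2 ⟨⟨_, rfl⟩, fun _ ⟨q, hq⟩ => hq ▸ congrArg _ (Subsingleton.elim _ _)⟩
  constructor
  · rintro ⟨⟨n, f, hn, hf, hxf, U, hU, hUa, hcl⟩, hstab⟩ l hl hne m hm
    have h0 := nonneg_of_semistable B hB x (IsLocalRing.closedPoint k)
      ⟨n, f, hn, hf, hxf, U, hU, hUa⟩ l m hm
    rcases h0.lt_or_eq with h | h
    · exact h
    exfalso
    obtain ⟨y, hy, hw⟩ := hm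
    obtain ⟨φ, hφ, hlim⟩ := exists_curve a l x
    rw [Mu99.limit_unique l hy hlim, ← h, neg_zero] at hw
    have hyU := limit_mem_nonvanishing B hB hf l φ hφ hw hxf
    rw [← hU] at hxf hyU
    obtain ⟨g, hg⟩ := exists_translate_of_closedOrbitsOn hcl l φ hφ hxf hyU
    have hfin := finite_pts_of_isFinite a x (hstab k (Pt k) (Iso.refl _) x (hrange x))
    refine hne (eq_one_of_finite_range l ((hfin.image fun q => g * q * g⁻¹).subset ?_))
    rintro _ ⟨u, rfl⟩
    refine ⟨g⁻¹ * (gpt u ≫ l) * g, ?_, by simp [_root_.mul_assoc]⟩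
    have hfix := Mu99.isFixedBy_of_isLimitPt l hlim (Pt k) (𝟙 _) (gpt u)
    rw [Category.id_comp, ← hg] at hfix
    show lift (g⁻¹ * (gpt u ≫ l) * g) x ≫ a.act = x
    rw [Mu99.act_mul, Mu99.act_mul, hfix, AlgGrp79.inv_act_act]
  intro hμ
  haveI := B.atlas.affine
  haveI := quasiCompact_total B
  haveI := quasiSeparated_total B
  obtain ⟨I, _, N, F, U, hN, hF, hU, hUa, hcov⟩ := exists_ampleFamily B hB
  obtain ⟨J, _, _, b, c, co, hrep, hbw, hbc, hFb⟩ := exists_repr B ψ F hF
  obtain ⟨U₀, ζ₀, hζ₀, hU₀⟩ := exists_chart_at B x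
  obtain ⟨v₀, hv₀, hv₀1⟩ := exists_over B hζ₀ x hU₀
  let v : J → k := vecW B b v₀
  have hFv : ∀ i, gv v₀ (F i) = ∑ j, co i j * v j := fun i => by
    rw [hFb i, map_sum]
    refine Finset.sum_congr rfl fun j _ => ?_
    rw [Algebra.smul_def, map_mul, algebraMap_eq_cst, gv_cst]
    rfl
  have hcov' : ∀ y, ∃ i, y ∈ GLinSh.nonvanishing B.π (F i) := fun y => by
    obtain ⟨i, hi⟩ := hcov y
    exact ⟨i, by rw [← hU i]; exact hi⟩
  have hv : v ≠ 0 := by
    intro h0
    obtain ⟨i, hi⟩ := hcov' (x.left.base (IsLocalRing.closedPoint k))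
    obtain ⟨cc, hc1, hc2⟩ := exists_weight_val B (hF i) hζ₀
    have h1 : gv v₀ (F i) ≠ 0 := by
      rw [hc1 v₀ (by rw [hv₀]; exact hU₀), hv₀, hv₀1, one_pow, _root_.mul_one]
      exact hc2 x hU₀ hi
    exact h1 (by rw [hFv i, h0]; simp)
  letI : HopfRep.Comod k A (MvPolynomial J k) := FinGrp34.PolyComod.comod (k := k) hrep
  haveI := FinGrp34.PolyComod.isCoactAlg (k := k) hrep
  have hlin : GLin.IsLinear k A J := fun j => ⟨fun i => c i j, FinGrp34.PolyComod.polyCoact_X j⟩
  have hpos : ∀ lam : A →ₐc[k] k[T;T⁻¹], ¬ SGA3t2b.IsTrivialBialgHom lam →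
      ∀ m : ℤ, GLin.IsMu k A lam v m → 0 < m := by
    intro lam hnt m hmu
    by_contra hle
    obtain ⟨m', hm', hmu'⟩ := exists_isMu_le B ψ hrep hbc hN F hF hcov' co hFb hζ₀ hU₀ hv₀ hv₀1 lam m
      (not_lt.1 hle) hmu
    exact absurd (hμ (lamGm lam ψ) (fun h => hnt (isTrivial_of_lamGm_eq_one ψ lam h)) m' hmu') (not_lt.2 hm')
  have hst := (HM.isStableVec_iff hLR hlin v hv).2 hpos
  have hss := (HM.isSemistableVec_iff hLR hlin v hv).2 fun lam m hmu => by
    by_cases htriv : SGA3t2b.IsTrivialBialgHom lam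
    · exact nonneg_of_trivial lam htriv v m hmu
    · exact (hpos lam htriv m hmu).le
  obtain ⟨P, hP, d, hd, hhom, hPv, hPfin⟩ := exists_form hrep hLR v hst hss
  have hev : ∀ v' : Pt k ⟶ B.V, gv v' (theta B (MvPolynomial.aeval b P)) = MvPolynomial.eval (vecW B b v') P := by
    intro v'
    rw [← evPt_apply, ← AlgHom.comp_apply, MvPolynomial.comp_aeval, ← MvPolynomial.coe_aeval_eq_eval]
    rfl
  letI := AffQuot.comod ψ (hullAct B.lift)
  haveI := AffQuot.isCoactAlg ψ (hullAct B.lift)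
  let r := MvPolynomial.aeval b P
  have hr : AffQuot.coact ψ (hullAct B.lift) r = r ⊗ₜ[k] (1 : A) := by
    refine (@FinGrp34.PolyComod.coact_aeval k _ A _ _ J _ _ c Γ((hull B.V).left, ⊤) _ _ _ _ b hbc P).trans ?_
    rw [show FinGrp34.PolyComod.polyCoact (k := k) c P = P ⊗ₜ[k] (1 : A) from
      (GLin.mem_invariants_iff k A (MvPolynomial J k) P).1 hP]
    simp [r]
  let f := theta B r
  have hf : GLinSh.HasWeight B.atlas.chart (d * N) f := by
    show GLinSh.HasWeight B.atlas.chart (d * N) (theta B (MvPolynomial.aeval b P))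
    rw [← AlgHom.comp_apply, MvPolynomial.comp_aeval]
    exact wt_aeval B _ hbw hhom
  have hfi : B.IsInvSection (d * N) f := ⟨hf, inv_theta B ((AffQuot.inv_iff ψ (hullAct B.lift) r).2 hr)⟩
  have hdN : 1 ≤ d * N := Nat.one_le_iff_ne_zero.2 (Nat.mul_ne_zero (by omega) (by omega))
  have hxf : x.left.base (IsLocalRing.closedPoint k) ∈ GLinSh.nonvanishing B.π f := by
    refine ⟨v₀.left (IsLocalRing.closedPoint k), ?_, ?_⟩
    · refine (mem_basicOpen_iff_val (O := ⊤) v₀ (fun _ _ => trivial) f).2 ?_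
      rw [← gv_eq_val, hev]
      exact hPv
    · rw [← hv₀]
      rfl
  let Uf : X.left.Opens := ⟨GLinSh.nonvanishing B.π f, isOpen_nonvanishing hfi⟩
  have hUf : IsAffineOpen Uf := isAffineOpen_nv (atlasB B) F hF hN U hU hUa hcov hf hdN (Uf := Uf) rfl
  have hfix : ∀ z : Pt k ⟶ X, z.left (IsLocalRing.closedPoint k) ∈ Uf →
      {g : Pt k ⟶ G | lift g z ≫ a.act = z}.Finite := fun z hz =>
    finite_fixers B ψ hrep hbc hbw hfi hdN z hz fun v' hv' => hPfin _ (by rwa [← hev])
  haveI : QuasiCompact G.hom := inferInstance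
  refine ⟨⟨d * N, f, hdN, hfi, hxf, Uf, rfl, hUf, closedOrbitsOn_of_finiteStab ψ hLR a Uf hUf
    (preimage_invariant hfi rfl) hfix⟩, fun Ω _ _ T eT g hg => ?_⟩
  rw [eq_const_of_range eT g x hg]
  exact isFinite_stabTo_comp a (toUnit T) x (isFinite_stabTo_of_pts a x (hfix x hxf))

end Groth.Agent.GIT36.Proj
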